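import Cfsg.Agent.Steiner.Count

/-!
Derived designs and intersection numbers of the Mathieu-type Steiner systems.
-/

set_option autoImplicit false

namespace Cfsg.Agent.Design

open Cfsg.Agent.SteinerCount

variable {α : Type*}

/-- The derived family at `q`, on the points other than `q`. -/
def derived (B : Set (Finset α)) (q : α) : Set (Finset {x : α // x ≠ q}) :=
  {r | Finset.cons q (r.map (Function.Embedding.subtype _)) (by simp) ∈ B}

theorem mem_derived {B : Set (Finset α)} {q : α} {r : Finset {x : α // x ≠ q}} :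
    r ∈ derived B q ↔
      Finset.cons q (r.map (Function.Embedding.subtype _)) (by simp) ∈ B := Iff.rfl

theorem derived_isSteiner {t k : ℕ} {B : Set (Finset α)}
    (hB : Cfsg.IsSteinerSystem (t + 1) (k + 1) B) (q : α) :
    Cfsg.IsSteinerSystem t k (derived B q) := by
  classical
  constructor
  · intro r hr
    have := hB.1 _ hr
    rw [Finset.card_cons, Finset.card_map] at this
    omega
  · intro s hs
    obtain ⟨b, ⟨hb, hsb⟩, hu⟩ := hB.2 (Finset.cons q (s.map (Function.Embedding.subtype _)) (by simp))
      (by rw [Finset.card_cons, Finset.card_map, hs])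
    rw [Finset.cons_subset] at hsb
    have hr : Finset.cons q ((b.subtype fun x => x ≠ q).map (Function.Embedding.subtype _))
        (by simp) = b := by
      ext x
      by_cases hx : x = q
      · simp [hx, hsb.1]
      · simp [hx]
    refine ⟨b.subtype fun x => x ≠ q, ⟨by rw [mem_derived, hr]; exact hb, ?_⟩, ?_⟩
    · intro x hx
      rw [Finset.mem_subtype]
      exact hsb.2 (Finset.mem_map_of_mem (Function.Embedding.subtype _) hx)
    · rintro r ⟨hrB, hsr⟩
      have h1 := hu _ ⟨hrB, by
        rw [Finset.cons_subset]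
        refine ⟨Finset.mem_cons_self _ _, fun x hx => ?_⟩
        rw [Finset.mem_cons]
        exact Or.inr (Finset.map_subset_map.mpr hsr hx)⟩
      ext x
      rw [Finset.mem_subtype, ← h1, Finset.mem_cons]
      simp [x.2]

variable [Fintype α]

/-- The blocks through a given set, as a finite set. -/
noncomputable def through [DecidableEq α] (B : Set (Finset α)) (s : Finset α) :
    Finset (Finset α) :=
  (blocks B).filter fun b => s ⊆ b

variable [DecidableEq α]

theorem ncard_eq (B : Set (Finset α)) : B.ncard = (blocks B).card :=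
  Set.ncard_eq_toFinset_card B _

theorem card_blocks {t k v N : ℕ} {B : Set (Finset α)} (hB : Cfsg.IsSteinerSystem t k B)
    (hv : Fintype.card α = v) (hk : 0 < k.choose t) (h : N * k.choose t = v.choose t) :
    B.ncard = N := by
  have h1 := blocks_through t k hB ∅ (Nat.zero_le _)
  simp only [Finset.card_empty, Nat.sub_zero, Finset.empty_subset, Finset.filter_true, hv, ← h]
    at h1
  rw [ncard_eq]
  exact Nat.eq_of_mul_eq_mul_right hk h1

theorem card_through {t k v N : ℕ} {B : Set (Finset α)} (hB : Cfsg.IsSteinerSystem t k B)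
    (hv : Fintype.card α = v) (s : Finset α) {j : ℕ} (hs : s.card = j) (hjt : j ≤ t)
    (hk : 0 < (k - j).choose (t - j)) (h : N * (k - j).choose (t - j) = (v - j).choose (t - j)) :
    (through B s).card = N := by
  have h1 := blocks_through t k hB s (hs ▸ hjt)
  rw [hs, hv, ← h] at h1
  exact Nat.eq_of_mul_eq_mul_right hk h1

theorem eq_of_two_le_inter {t k : ℕ} {B : Set (Finset α)} (hB : Cfsg.IsSteinerSystem t k B)
    {b c : Finset α} (hb : b ∈ B) (hc : c ∈ B) (h : t ≤ (b ∩ c).card) : b = c := by
  obtain ⟨s, hs, hst⟩ := Finset.exists_subset_card_eq (s := b ∩ c) h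
  obtain ⟨d, -, hu⟩ := hB.2 s hst
  exact (hu b ⟨hb, hs.trans Finset.inter_subset_left⟩).trans
    (hu c ⟨hc, hs.trans Finset.inter_subset_right⟩).symm

/-- Counting pairs of a block and an `i`-subset of its intersection with a fixed set. -/
theorem sum_choose_inter {t k v N : ℕ} {B : Set (Finset α)} (hB : Cfsg.IsSteinerSystem t k B)
    (hv : Fintype.card α = v) (c : Finset α) {i : ℕ} (hit : i ≤ t)
    (hk : 0 < (k - i).choose (t - i)) (h : N * (k - i).choose (t - i) = (v - i).choose (t - i)) :
    ∑ b ∈ blocks B, (b ∩ c).card.choose i = c.card.choose i * N := by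
  have h1 : ∀ b : Finset α, (b ∩ c).card.choose i =
      ((c.powersetCard i).filter fun s => s ⊆ b).card := by
    intro b
    rw [← Finset.card_powersetCard]
    congr 1
    ext s
    simp only [Finset.mem_powersetCard, Finset.mem_filter, Finset.subset_inter_iff]
    tauto
  have h2 := Finset.sum_card_bipartiteAbove_eq_sum_card_bipartiteBelow
    (s := blocks B) (t := c.powersetCard i) (fun b s => s ⊆ b)
  simp only [Finset.bipartiteAbove, Finset.bipartiteBelow] at h2
  rw [Finset.sum_congr rfl fun b _ => h1 b, h2, Finset.sum_congr rfl (g := fun _ => N) ?_,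
    Finset.sum_const, Finset.card_powersetCard, smul_eq_mul]
  intro s hs
  exact card_through hB hv s (Finset.mem_powersetCard.mp hs).2 hit hk h

/-- The same count over the blocks other than `c`. -/
theorem sum_choose_inter_erase {t k v N : ℕ} {B : Set (Finset α)}
    (hB : Cfsg.IsSteinerSystem t k B) (hv : Fintype.card α = v) {c : Finset α} (hc : c ∈ B)
    {i : ℕ} (hit : i ≤ t) (hk : 0 < (k - i).choose (t - i))
    (h : N * (k - i).choose (t - i) = (v - i).choose (t - i)) :
    ∑ b ∈ (blocks B).erase c, (b ∩ c).card.choose i + k.choose i = k.choose i * N := by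
  have h1 := sum_choose_inter hB hv c hit hk h
  rw [hB.1 c hc] at h1
  rw [← h1, ← Finset.sum_erase_add (blocks B) _ (mem_blocks.mpr hc), Finset.inter_self, hB.1 c hc]

/-- A weighted count that vanishes forces each intersection number to be a zero of the weight. -/
theorem eq_zero_of_sum {ι : Type*} {S : Finset ι} {f : ι → ℕ} (h : ∑ b ∈ S, f b = 0)
    {b : ι} (hb : b ∈ S) : f b = 0 :=
  (Finset.sum_eq_zero_iff).mp h b hb

/-- Two blocks of an S(3,6,22) meet in 0 or 2 points. -/
theorem inter_3_6_22 {B : Set (Finset α)} (hB : Cfsg.IsSteinerSystem 3 6 B)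
    (hv : Fintype.card α = 22) {b c : Finset α} (hb : b ∈ B) (hc : c ∈ B) (hne : b ≠ c) :
    (b ∩ c).card = 0 ∨ (b ∩ c).card = 2 := by
  have hlt : ∀ x ∈ (blocks B).erase c, (x ∩ c).card < 3 := by
    intro x hx
    rw [Finset.mem_erase, mem_blocks] at hx
    by_contra hle
    exact hx.1 (eq_of_two_le_inter hB hx.2 hc (by omega))
  have h1 := sum_choose_inter_erase (N := 21) hB hv hc (i := 1) (by norm_num) (by decide) (by decide)
  have h2 := sum_choose_inter_erase (N := 5) hB hv hc (i := 2) (by norm_num) (by decide) (by decide)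
  norm_num [Nat.choose_one_right] at h1 h2
  have hpt : ∀ x ∈ (blocks B).erase c, (x ∩ c).card =
      (if (x ∩ c).card = 1 then 1 else 0) + 2 * (x ∩ c).card.choose 2 := by
    intro x hx
    have := hlt x hx
    interval_cases (x ∩ c).card <;> simp
  rw [Finset.sum_congr rfl hpt, Finset.sum_add_distrib, ← Finset.mul_sum] at h1
  norm_num [show Nat.choose 6 2 = 15 from rfl] at h2
  have h3 : ∑ x ∈ (blocks B).erase c, (if (x ∩ c).card = 1 then 1 else 0) = 0 := by omega
  have hb' : b ∈ (blocks B).erase c := Finset.mem_erase.mpr ⟨hne, mem_blocks.mpr hb⟩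
  have h4 := eq_zero_of_sum h3 hb'
  have := hlt b hb'
  split_ifs at h4 with h5
  omega

/-- Two blocks of an S(4,7,23) meet in 1 or 3 points. -/
theorem inter_4_7_23 {B : Set (Finset α)} (hB : Cfsg.IsSteinerSystem 4 7 B)
    (hv : Fintype.card α = 23) {b c : Finset α} (hb : b ∈ B) (hc : c ∈ B) (hne : b ≠ c) :
    (b ∩ c).card = 1 ∨ (b ∩ c).card = 3 := by
  have hlt : ∀ x ∈ (blocks B).erase c, (x ∩ c).card < 4 := by
    intro x hx
    rw [Finset.mem_erase, mem_blocks] at hx
    by_contra hle
    exact hx.1 (eq_of_two_le_inter hB hx.2 hc (by omega))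
  have hN := card_blocks (N := 253) hB hv (by decide) (by decide)
  have hcard : ((blocks B).erase c).card = 252 := by
    rw [Finset.card_erase_of_mem (mem_blocks.mpr hc), ← ncard_eq, hN]
  have h1 := sum_choose_inter_erase (N := 77) hB hv hc (i := 1) (by norm_num) (by decide) (by decide)
  have h2 := sum_choose_inter_erase (N := 21) hB hv hc (i := 2) (by norm_num) (by decide) (by decide)
  have h3 := sum_choose_inter_erase (N := 5) hB hv hc (i := 3) (by norm_num) (by decide) (by decide)
  norm_num [show Nat.choose 7 1 = 7 from rfl, show Nat.choose 7 2 = 21 from rfl,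
    show Nat.choose 7 3 = 35 from rfl] at h1 h2 h3
  -- n₁ + 2 n₂ + 3 n₃ = 532, n₂ + 3 n₃ = 420, n₃ = 140
  have hpt : ∀ x ∈ (blocks B).erase c, 1 + 3 * (x ∩ c).card.choose 3 +
        (x ∩ c).card.choose 2 =
      (if (x ∩ c).card = 0 then 1 else 0) + (x ∩ c).card.choose 1 +
        4 * (x ∩ c).card.choose 3 := by
    intro x hx
    have := hlt x hx
    interval_cases (x ∩ c).card <;> simp [Nat.choose]
  have h4 := Finset.sum_congr rfl hpt
  simp only [Finset.sum_add_distrib, ← Finset.mul_sum, Finset.sum_const, smul_eq_mul, hcard, mul_one,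
    Nat.choose_one_right] at h4
  have hpt2 : ∀ x ∈ (blocks B).erase c, (x ∩ c).card.choose 2 =
      (if (x ∩ c).card = 2 then 1 else 0) + 3 * (x ∩ c).card.choose 3 := by
    intro x hx
    have := hlt x hx
    interval_cases (x ∩ c).card <;> simp [Nat.choose]
  have h5 := Finset.sum_congr rfl hpt2
  simp only [Finset.sum_add_distrib, ← Finset.mul_sum] at h5
  have h0 : ∑ x ∈ (blocks B).erase c, (if (x ∩ c).card = 0 then 1 else 0) = 0 := by omega
  have h2' : ∑ x ∈ (blocks B).erase c, (if (x ∩ c).card = 2 then 1 else 0) = 0 := by omega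
  have hb' : b ∈ (blocks B).erase c := Finset.mem_erase.mpr ⟨hne, mem_blocks.mpr hb⟩
  have e0 := eq_zero_of_sum h0 hb'
  have e2 := eq_zero_of_sum h2' hb'
  have := hlt b hb'
  split_ifs at e0 e2 with a b'
  omega

/-- Two blocks of an S(5,8,24) meet in 0, 2 or 4 points. -/
theorem inter_5_8_24 {B : Set (Finset α)} (hB : Cfsg.IsSteinerSystem 5 8 B)
    (hv : Fintype.card α = 24) {b c : Finset α} (hb : b ∈ B) (hc : c ∈ B) (hne : b ≠ c) :
    (b ∩ c).card = 0 ∨ (b ∩ c).card = 2 ∨ (b ∩ c).card = 4 := by
  rcases Nat.eq_zero_or_pos (b ∩ c).card with h0 | h0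
  · exact Or.inl h0
  right
  obtain ⟨q, hq⟩ := Finset.card_pos.mp h0
  rw [Finset.mem_inter] at hq
  have hB' : Cfsg.IsSteinerSystem 4 7 (derived B q) := derived_isSteiner hB q
  have hv' : Fintype.card {x : α // x ≠ q} = 23 := by
    rw [Fintype.card_subtype_compl, Fintype.card_subtype_eq, hv]
  have key : ∀ d ∈ B, q ∈ d → (d.subtype fun x => x ≠ q) ∈ derived B q := by
    intro d hd hqd
    rw [mem_derived]
    convert! hd using 1
    ext x
    by_cases hx : x = q
    · simp [hx, hqd]
    · simp [hx]
  have h := inter_4_7_23 hB' hv' (key b hb hq.1) (key c hc hq.2) (fun e => hne ?_)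
  · have hcard : (b ∩ c).card =
        ((b.subtype fun x => x ≠ q) ∩ (c.subtype fun x => x ≠ q)).card + 1 := by
      have : (b.subtype fun x => x ≠ q) ∩ (c.subtype fun x => x ≠ q) =
          (b ∩ c).subtype fun x => x ≠ q := by ext; simp
      rw [this, Finset.card_subtype]
      rw [Finset.filter_ne', Finset.card_erase_add_one (Finset.mem_inter.mpr hq)]
    rw [hcard]
    omega
  · ext x
    by_cases hx : x = q
    · simp [hx, hq.1, hq.2]
    · have := congrArg (fun s : Finset {x : α // x ≠ q} => (⟨x, hx⟩ : {x : α // x ≠ q}) ∈ s) e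
      simpa using this

end Cfsg.Agent.Design
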