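import Mathlib

/-!
Bit masks for subsets of `Fin n`, with kernel-friendly parity and weight functions and a
levelwise enumeration of the masks satisfying a monotone test.
-/

set_option autoImplicit false

namespace Cfsg.Agent.Design

variable {n : ℕ}

/-- The subset of `Fin n` with bit mask `m`. -/
def bits (n m : ℕ) : Finset (Fin n) := Finset.univ.filter fun i => m.testBit i = true

theorem mem_bits {m : ℕ} {i : Fin n} : i ∈ bits n m ↔ m.testBit i = true := by simp [bits]

/-- The bit mask of a subset of `Fin n`. -/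
def mask (s : Finset (Fin n)) : ℕ := ∑ i ∈ s, 2 ^ (i : ℕ)

theorem bit_add_pow_of_lt {r i j : ℕ} (hr : r < 2 ^ i) :
    (r + 2 ^ i).testBit j = (decide (j = i) || r.testBit j) := by
  rw [add_comm, show 2 ^ i + r = 2 ^ i * 1 + r by rw [mul_one],
    Nat.two_pow_add_eq_or_of_lt hr, Nat.testBit_or, mul_one, Nat.testBit_two_pow]
  simp [eq_comm]

theorem mask_spec (s : Finset (Fin n)) :
    mask s < 2 ^ n ∧ ∀ i : Fin n, (mask s).testBit i = decide (i ∈ s) := by
  classical
  suffices h : ∀ k : ℕ, (∀ i ∈ s, (i : ℕ) < k) →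
      mask s < 2 ^ k ∧ ∀ i : Fin n, (mask s).testBit i = decide (i ∈ s) from h n (fun i _ => i.2)
  induction s using Finset.induction_on_max with
  | empty => intro k _; simp [mask]
  | insert a s has ih =>
    intro k hk
    have ha : a ∉ s := fun h => lt_irrefl a (has a h)
    obtain ⟨h1, h2⟩ := ih a (fun i hi => has i hi)
    have hm : mask (insert a s) = mask s + 2 ^ (a : ℕ) := by
      rw [mask, Finset.sum_insert ha, add_comm]; rfl
    refine ⟨?_, fun i => ?_⟩
    · have hak := hk a (Finset.mem_insert_self a s)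
      rw [hm]
      calc mask s + 2 ^ (a : ℕ) < 2 ^ ((a : ℕ) + 1) := by rw [pow_succ]; omega
        _ ≤ 2 ^ k := Nat.pow_le_pow_right two_pos hak
    · rw [hm, bit_add_pow_of_lt h1, h2 i]
      simp [Fin.val_inj]

theorem mask_lt (s : Finset (Fin n)) : mask s < 2 ^ n := (mask_spec s).1

theorem testBit_mask (s : Finset (Fin n)) (i : Fin n) :
    (mask s).testBit i = decide (i ∈ s) := (mask_spec s).2 i

@[simp] theorem bits_mask (s : Finset (Fin n)) : bits n (mask s) = s := by
  ext i; simp [mem_bits, testBit_mask]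

theorem mask_bits {m : ℕ} (hm : m < 2 ^ n) : mask (bits n m) = m := by
  apply Nat.eq_of_testBit_eq
  intro j
  by_cases hj : j < n
  · have := testBit_mask (bits n m) ⟨j, hj⟩
    simpa [mem_bits] using this
  · have h2 : 2 ^ n ≤ 2 ^ j := Nat.pow_le_pow_right two_pos (by omega)
    rw [Nat.testBit_eq_false_of_lt (lt_of_lt_of_le (mask_lt _) h2),
      Nat.testBit_eq_false_of_lt (lt_of_lt_of_le hm h2)]

theorem bits_inj {a b : ℕ} (ha : a < 2 ^ n) (hb : b < 2 ^ n) (h : bits n a = bits n b) : a = b := by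
  rw [← mask_bits ha, ← mask_bits hb, h]

theorem mask_inj {s t : Finset (Fin n)} (h : mask s = mask t) : s = t := by
  rw [← bits_mask s, ← bits_mask t, h]

theorem bits_land (a b : ℕ) : bits n (a &&& b) = bits n a ∩ bits n b := by
  ext i; simp [mem_bits]

/-- `sub a b`: the mask `a` is contained in the mask `b`. -/
def sub (a b : ℕ) : Bool := Nat.beq (a &&& b) a

theorem sub_eq_true {a b : ℕ} (ha : a < 2 ^ n) : sub a b = true ↔ bits n a ⊆ bits n b := by
  rw [sub, Nat.beq_eq]
  constructor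
  · intro h i hi
    rw [mem_bits, ← h, Nat.testBit_and, Bool.and_eq_true] at hi
    exact mem_bits.mpr hi.2
  · intro h
    apply bits_inj (n := n) (lt_of_le_of_lt Nat.and_le_left ha) ha
    rw [bits_land, Finset.inter_eq_left.mpr h]

/-- Number of set bits below `n`. -/
def wt : ℕ → ℕ → ℕ
  | 0, _ => 0
  | n + 1, m => m % 2 + wt n (m / 2)

theorem wt_eq : ∀ (n m : ℕ), wt n m = ∑ i ∈ Finset.range n, (m.testBit i).toNat
  | 0, _ => by simp [wt]
  | n + 1, m => by
    rw [wt, Finset.sum_range_succ', wt_eq n (m / 2), Nat.toNat_testBit, pow_zero, Nat.div_one,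
      add_comm (m % 2)]
    simp [Nat.testBit_succ]

theorem card_bits (n m : ℕ) : (bits n m).card = wt n m := by
  rw [wt_eq, bits, Finset.card_filter,
    ← Fin.sum_univ_eq_sum_range (fun i => (m.testBit i).toNat) n]
  refine Finset.sum_congr rfl fun i _ => ?_
  cases m.testBit i <;> simp

/-- One folding step. -/
def foldBit (s x : ℕ) : ℕ := x ^^^ (x >>> s)

/-- Parity of the number of set bits below 32. -/
def par (x : ℕ) : ℕ := (foldBit 1 (foldBit 2 (foldBit 4 (foldBit 8 (foldBit 16 x))))) % 2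

theorem wt_foldBit (s x : ℕ) : wt s (foldBit s x) % 2 = wt (s + s) x % 2 := by
  have h : ∀ a b : Bool, (a ^^ b).toNat % 2 = (a.toNat + b.toNat) % 2 := by decide
  rw [wt_eq, wt_eq, Finset.sum_range_add, ← Finset.sum_add_distrib, Finset.sum_nat_mod,
    Finset.sum_nat_mod (Finset.range s) 2
      (fun i => (x.testBit i).toNat + (x.testBit (s + i)).toNat)]
  congr 1
  refine Finset.sum_congr rfl fun i _ => ?_
  rw [foldBit, Nat.testBit_xor, Nat.testBit_shiftRight, h]

theorem par_eq (x : ℕ) : par x = wt 32 x % 2 := by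
  have h1 : ∀ y, y % 2 = wt 1 y % 2 := fun y => by simp [wt]
  rw [par, h1, wt_foldBit, wt_foldBit, wt_foldBit, wt_foldBit, wt_foldBit]

theorem wt_eq_of_lt {n m : ℕ} (hm : m < 2 ^ n) {k : ℕ} (hk : n ≤ k) : wt k m = wt n m := by
  rw [wt_eq, wt_eq]
  symm
  apply Finset.sum_subset (Finset.range_mono hk)
  intro i _ hi
  rw [Finset.mem_range, not_lt] at hi
  rw [Nat.testBit_eq_false_of_lt (lt_of_lt_of_le hm (Nat.pow_le_pow_right two_pos hi))]
  rfl

theorem par_land {n a b : ℕ} (hn : n ≤ 32) (ha : a < 2 ^ n) :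
    par (a &&& b) = (bits n a ∩ bits n b).card % 2 := by
  rw [par_eq, wt_eq_of_lt (lt_of_le_of_lt Nat.and_le_left ha) hn, ← bits_land, card_bits]

theorem par_land_mask {n : ℕ} (hn : n ≤ 32) (s t : Finset (Fin n)) :
    par (mask s &&& mask t) = (s ∩ t).card % 2 := by
  rw [par_land hn (mask_lt s), bits_mask, bits_mask]

theorem wt_mask (s : Finset (Fin n)) : wt n (mask s) = s.card := by
  rw [← card_bits, bits_mask]

/-- Masks below `2 ^ i` all of whose truncations pass the test. -/
def levels (ok : ℕ → ℕ → Bool) : ℕ → List ℕ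
  | 0 => [0]
  | i + 1 => (levels ok i ++ (levels ok i).map (fun x => x + 2 ^ i)).filter (ok i)

theorem mem_levels (ok : ℕ → ℕ → Bool) (m : ℕ) :
    ∀ i, (∀ j < i, ok j (m % 2 ^ (j + 1)) = true) → m % 2 ^ i ∈ levels ok i := by
  intro i
  induction i with
  | zero => intro _; simp [levels, Nat.mod_one]
  | succ i ih =>
    intro h
    have hih := ih (fun j hj => h j (by omega))
    rw [levels, List.mem_filter]
    refine ⟨?_, h i (by omega)⟩
    have h1 : m % 2 ^ (i + 1) = m % 2 ^ i + 2 ^ i * ((m / 2 ^ i) % 2) := by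
      rw [pow_succ, Nat.mod_mul]
    rcases Nat.mod_two_eq_zero_or_one (m / 2 ^ i) with h2 | h2 <;> rw [h2] at h1
    · rw [List.mem_append]; left
      rw [h1, mul_zero, add_zero]; exact hih
    · rw [List.mem_append]; right
      rw [h1, mul_one, List.mem_map]; exact ⟨_, hih, rfl⟩

theorem wt_mod_le {n m : ℕ} (j : ℕ) : wt n (m % 2 ^ j) ≤ wt n m := by
  rw [← card_bits, ← card_bits]
  apply Finset.card_le_card
  intro i hi
  rw [mem_bits, Nat.testBit_mod_two_pow, Bool.and_eq_true] at hi
  exact mem_bits.mpr hi.2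

theorem land_mod_eq {m r j : ℕ} (hr : r < 2 ^ j) : (m % 2 ^ j) &&& r = m &&& r := by
  apply Nat.eq_of_testBit_eq
  intro i
  rw [Nat.testBit_and, Nat.testBit_and, Nat.testBit_mod_two_pow]
  by_cases hi : i < j
  · simp [hi]
  · have h : r.testBit i = false :=
      Nat.testBit_eq_false_of_lt (lt_of_lt_of_le hr (Nat.pow_le_pow_right two_pos (by omega)))
    simp [h]

theorem sum_toNat_xor (k a b : ℕ) :
    (∑ i ∈ Finset.range k, ((a ^^^ b).testBit i).toNat) % 2 =
      ((∑ i ∈ Finset.range k, (a.testBit i).toNat) +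
        (∑ i ∈ Finset.range k, (b.testBit i).toNat)) % 2 := by
  have h : ∀ a b : Bool, (a ^^ b).toNat % 2 = (a.toNat + b.toNat) % 2 := by decide
  induction k with
  | zero => simp
  | succ k ih =>
    rw [Finset.sum_range_succ, Finset.sum_range_succ, Finset.sum_range_succ, Nat.testBit_xor]
    have := h (a.testBit k) (b.testBit k)
    omega

theorem wt_xor (k a b : ℕ) : wt k (a ^^^ b) % 2 = (wt k a + wt k b) % 2 := by
  rw [wt_eq, wt_eq, wt_eq, sum_toNat_xor]

theorem par_land_xor (m a b : ℕ) :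
    par (m &&& (a ^^^ b)) = (par (m &&& a) + par (m &&& b)) % 2 := by
  rw [Nat.and_xor_distrib_left, par_eq (_ ^^^ _), par_eq (m &&& a), par_eq (m &&& b)]
  generalize 32 = k
  rw [wt_xor, Nat.add_mod]

end Cfsg.Agent.Design
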