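import Mathlib

/-!
Bit masks of the affine plane of order 3 and of the classes of blocks completing it to
S(3,4,10), S(4,5,11) and S(5,6,12).
-/

set_option autoImplicit false

namespace Cfsg.Agent.Design.Data

def list9 : List ℕ := [7, 25, 42, 84, 97, 140, 176, 194, 274, 292, 328, 385]

def cls10_0 : List ℕ := [30, 53, 75, 108, 114, 147, 166, 169, 197, 216, 269, 291, 312, 326, 337, 394, 404, 480]

def cls10_1 : List ℕ := [51, 60, 77, 90, 102, 139, 150, 165, 209, 232, 270, 277, 297, 323, 368, 408, 418, 452]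

def cls10_2 : List ℕ := [45, 54, 78, 83, 120, 149, 154, 163, 201, 228, 267, 284, 305, 325, 354, 390, 424, 464]

def cls11_0 : List ℕ := [47, 87, 121, 157, 186, 206, 227, 244, 283, 310, 348, 357, 362, 391, 428, 433, 457, 466, 563, 572, 589, 602, 614, 651, 662, 677, 721, 744, 782, 789, 809, 835, 880, 920, 930, 964]

def cls11_1 : List ℕ := [59, 93, 103, 143, 188, 214, 234, 241, 279, 302, 346, 361, 372, 409, 421, 434, 451, 460, 557, 566, 590, 595, 632, 661, 666, 675, 713, 740, 779, 796, 817, 837, 866, 902, 936, 976]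

def cls12_0 : List ℕ := [126, 183, 219, 237, 317, 335, 371, 414, 427, 469, 486, 504, 543, 619, 629, 686, 697, 711, 732, 754, 807, 826, 854, 857, 876, 909, 915, 948, 970, 993, 1083, 1117, 1127, 1167, 1212, 1238, 1258, 1265, 1303, 1326, 1370, 1385, 1396, 1433, 1445, 1458, 1475, 1484, 1581, 1590, 1614, 1619, 1656, 1685, 1690, 1699, 1737, 1764, 1803, 1820, 1841, 1861, 1890, 1926, 1960, 2000]

end Cfsg.Agent.Design.Data
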