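import Cfsg.Agent.Design.Iso

/-!
Enumerating the masks of given weight satisfying linear parity conditions, and exact covers.
-/

set_option autoImplicit false

namespace Cfsg.Agent.Design

/-- Exclusive or of a list of masks. -/
def xorList : List ℕ → ℕ
  | [] => 0
  | a :: l => a ^^^ xorList l

theorem par_zero : par 0 = 0 := rfl

theorem par_xorList (m τ : ℕ) : ∀ l : List ℕ, (∀ r ∈ l, par (m &&& r) = τ) →
    par (m &&& xorList l) = l.length * τ % 2
  | [], _ => by simp [xorList, par_zero]
  | a :: l, h => by
    rw [xorList, par_land_xor, par_xorList m τ l fun r hr => h r (List.mem_cons_of_mem _ hr),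
      h a List.mem_cons_self, List.length_cons, Nat.succ_mul, Nat.add_mod_mod, Nat.add_comm]

/-- Validity of triangular parity rows derived from the rows `R`. -/
def rowsValid (R : List ℕ) (E : List (ℕ × ℕ × List ℕ)) : Bool :=
  E.all fun e => decide (e.2.1 < 2 ^ (e.1 + 1)) && Nat.beq (xorList e.2.2) e.2.1 &&
    e.2.2.all fun r => memb r R

/-- The levelwise test. -/
def rowTest (n k τ : ℕ) (E : List (ℕ × ℕ × List ℕ)) (i m : ℕ) : Bool :=
  decide (wt n m ≤ k) &&
    E.all fun e => !(Nat.beq e.1 i) || Nat.beq (par (m &&& e.2.1)) (e.2.2.length * τ % 2)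

/-- All masks of weight `k` below `2 ^ n` passing the parity rows. -/
def parCands (n k τ : ℕ) (E : List (ℕ × ℕ × List ℕ)) : List ℕ :=
  (levels (rowTest n k τ E) n).filter fun m => Nat.beq (wt n m) k

theorem mem_parCands {n k τ : ℕ} {R : List ℕ} {E : List (ℕ × ℕ × List ℕ)} (hn : n ≤ 32)
    (hE : rowsValid R E = true) (s : Finset (Fin n)) (hs : s.card = k)
    (hpar : ∀ r ∈ R, (s ∩ bits n r).card % 2 = τ) : mask s ∈ parCands n k τ E := by
  rw [parCands, List.mem_filter]
  have hlev : mask s % 2 ^ n ∈ levels (rowTest n k τ E) n := by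
    apply mem_levels
    intro i hi
    rw [rowTest, Bool.and_eq_true]
    constructor
    · rw [decide_eq_true_eq, ← hs, ← wt_mask s]
      exact wt_mod_le _
    · rw [List.all_eq_true]
      intro e he
      rw [Bool.or_eq_true]
      by_cases hei : e.1 = i
      · right
        have hv := List.all_eq_true.mp hE e he
        simp only [Bool.and_eq_true, decide_eq_true_eq, Nat.beq_eq, List.all_eq_true] at hv
        rw [Nat.beq_eq, land_mod_eq (hei ▸ hv.1.1), ← hv.1.2]
        apply par_xorList
        intro r hr
        rw [par_land hn (mask_lt s), bits_mask]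
        exact hpar r (memb_iff.mp (hv.2 r hr))
      · left
        rw [Bool.not_eq_true', ← Bool.not_eq_true, Nat.beq_eq]
        exact hei
  rw [Nat.mod_eq_of_lt (mask_lt s)] at hlev
  refine ⟨hlev, ?_⟩
  rw [Nat.beq_eq, wt_mask, hs]

/-- The test for sets of size at most `k` containing none of the forbidden masks. -/
def avoidTest (n k : ℕ) (F : List ℕ) (_i m : ℕ) : Bool :=
  decide (wt n m ≤ k) && F.all fun f => !(sub f m)

/-- All masks of weight `k` below `2 ^ n` containing no forbidden mask. -/
def avoidCands (n k : ℕ) (F : List ℕ) : List ℕ :=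
  (levels (avoidTest n k F) n).filter fun m => Nat.beq (wt n m) k

theorem mem_avoidCands {n k : ℕ} {F : List ℕ} (hF : ∀ f ∈ F, f < 2 ^ n) (s : Finset (Fin n))
    (hs : s.card = k) (h : ∀ f ∈ F, ¬ bits n f ⊆ s) : mask s ∈ avoidCands n k F := by
  rw [avoidCands, List.mem_filter]
  have hlev : mask s % 2 ^ n ∈ levels (avoidTest n k F) n := by
    apply mem_levels
    intro i hi
    rw [avoidTest, Bool.and_eq_true]
    constructor
    · rw [decide_eq_true_eq, ← hs, ← wt_mask s]
      exact wt_mod_le _
    · rw [List.all_eq_true]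
      intro f hf
      rw [Bool.not_eq_true', ← Bool.not_eq_true, sub_eq_true (hF f hf)]
      intro hsub
      apply h f hf
      intro x hx
      have hx' := hsub hx
      rw [mem_bits, Nat.testBit_mod_two_pow, Bool.and_eq_true] at hx'
      simpa [testBit_mask] using hx'.2
  rw [Nat.mod_eq_of_lt (mask_lt s)] at hlev
  refine ⟨hlev, ?_⟩
  rw [Nat.beq_eq, wt_mask, hs]

/-- All exact covers of the items by candidates, found by a depth-first search. -/
def covers : ℕ → List ℕ → List ℕ → List ℕ → List (List ℕ)
  | _, [], _, acc => [acc]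
  | 0, _ :: _, _, _ => []
  | fuel + 1, s :: rest, cands, acc =>
    (cands.filter (sub s)).flatMap fun c =>
      covers fuel (rest.filter fun x => !(sub x c))
        (cands.filter fun d => ((s :: rest).filter fun x => sub x c).all fun x => !(sub x d))
        (c :: acc)

/-- A set in which every item lies in exactly one member contains one of the covers found. -/
theorem covers_spec (R : ℕ → Prop) : ∀ (fuel : ℕ) (items cands acc : List ℕ),
    items.Nodup → items.length ≤ fuel →
    (∀ x ∈ items, ∃ c, R c ∧ c ∈ cands ∧ sub x c = true) →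
    (∀ x ∈ items, ∀ c d, R c → R d → sub x c = true → sub x d = true → c = d) →
    (∀ c ∈ acc, R c) → acc.Nodup →
    (∀ c ∈ acc, ∀ x ∈ items, sub x c = false) →
    ∃ S ∈ covers fuel items cands acc, S.Nodup ∧ ∀ c ∈ S, R c
  | fuel, [], cands, acc, _, _, _, _, hacc, hnd, _ => by
    refine ⟨acc, ?_, hnd, hacc⟩
    cases fuel <;> simp [covers]
  | 0, s :: rest, _, _, _, hlen, _, _, _, _, _ => by simp at hlen
  | fuel + 1, s :: rest, cands, acc, hndi, hlen, hex, huniq, hacc, hnd, hfree => by
    obtain ⟨c, hc, hcc, hsc⟩ := hex s List.mem_cons_self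
    obtain ⟨S, hS, hS'⟩ := covers_spec R fuel (rest.filter fun x => !(sub x c))
      (cands.filter fun d => ((s :: rest).filter fun x => sub x c).all fun x => !(sub x d))
      (c :: acc) ((List.nodup_cons.mp hndi).2.filter _)
      ((List.length_filter_le _ _).trans (Nat.le_of_succ_le_succ hlen))
      (by
        intro x hx
        rw [List.mem_filter, Bool.not_eq_true'] at hx
        obtain ⟨d, hd, hdc, hxd⟩ := hex x (List.mem_cons_of_mem _ hx.1)
        refine ⟨d, hd, List.mem_filter.mpr ⟨hdc, ?_⟩, hxd⟩
        rw [List.all_eq_true]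
        intro y hy
        rw [List.mem_filter] at hy
        by_contra hne
        rw [Bool.not_eq_true', Bool.not_eq_false] at hne
        have := huniq y hy.1 c d hc hd hy.2 hne
        rw [this, hxd] at hx
        exact Bool.noConfusion hx.2)
      (fun x hx => huniq x (List.mem_cons_of_mem _ (List.mem_filter.mp hx).1))
      (List.forall_mem_cons.mpr ⟨hc, hacc⟩)
      (List.nodup_cons.mpr ⟨fun hmem => by
        have := hfree c hmem s List.mem_cons_self
        rw [hsc] at this
        exact Bool.noConfusion this, hnd⟩)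
      (by
        intro d hd x hx
        rw [List.mem_filter, Bool.not_eq_true'] at hx
        rcases List.mem_cons.mp hd with rfl | hd
        · exact hx.2
        · exact hfree d hd x (List.mem_cons_of_mem _ hx.1))
    refine ⟨S, ?_, hS'⟩
    rw [covers, List.mem_flatMap]
    exact ⟨c, List.mem_filter.mpr ⟨hcc, hsc⟩, hS⟩

/-- Strictly increasing lists of natural numbers. -/
def incr : List ℕ → Bool
  | [] => true
  | [_] => true
  | a :: b :: l => decide (a < b) && incr (b :: l)

theorem incr_pairwise : ∀ {l : List ℕ}, incr l = true → l.Pairwise (· < ·)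
  | [], _ => List.Pairwise.nil
  | [a], _ => List.pairwise_singleton _ a
  | a :: b :: l, h => by
    rw [incr, Bool.and_eq_true, decide_eq_true_eq] at h
    have ih := incr_pairwise h.2
    refine List.pairwise_cons.mpr ⟨fun x hx => ?_, ih⟩
    rcases List.mem_cons.mp hx with rfl | hx
    · exact h.1
    · exact h.1.trans ((List.pairwise_cons.mp ih).1 x hx)

theorem nodup_of_incr {l : List ℕ} (h : incr l = true) : l.Nodup :=
  (incr_pairwise h).imp Nat.ne_of_lt

/-- Equality test for lists of natural numbers. -/
def listEq : List ℕ → List ℕ → Bool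
  | [], [] => true
  | a :: l, b :: m => Nat.beq a b && listEq l m
  | _, _ => false

theorem eq_of_listEq : ∀ {l m : List ℕ}, listEq l m = true → l = m
  | [], [], _ => rfl
  | a :: l, b :: m, h => by
    rw [listEq, Bool.and_eq_true, Nat.beq_eq] at h
    rw [h.1, eq_of_listEq h.2]
  | [], b :: m, h => by simp [listEq] at h
  | a :: l, [], h => by simp [listEq] at h

theorem mapsInto_one {n : ℕ} {L : List ℕ} (h : ∀ m ∈ L, m < 2 ^ n) :
    mapsInto (1 : Equiv.Perm (Fin n)) L L = true := by
  rw [mapsInto, List.all_eq_true]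
  intro m hm
  have h1 := mask_map (1 : Equiv.Perm (Fin n)) (bits n m)
  rw [mask_bits (h m hm)] at h1
  rw [← h1, memb_iff]
  have : (bits n m).map (1 : Equiv.Perm (Fin n)).toEmbedding = bits n m := by ext; simp [Equiv.Perm.one_def]
  rw [this, mask_bits (h m hm)]
  exact hm

end Cfsg.Agent.Design
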