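import Cfsg.Agent.Design.Small
import Cfsg.Agent.Sharply.Degree

/-!
Automorphism groups of S(4,5,11) and S(5,6,12).
-/

set_option autoImplicit false

namespace Cfsg.Agent.Design

open MulAction

variable {α : Type*} [Fintype α] [DecidableEq α] {B : Set (Finset α)}

/-- A transitive group on `k`-tuples of the same order as the set of tuples is sharp. -/
theorem isSharp_of_card {G β : Type*} [Group G] [MulAction G β] [Fintype β] {k : ℕ}
    (ht : IsMultiplyPretransitive G β k) (hk : k ≤ Fintype.card β)
    (hc : Nat.card G = (Fintype.card β).descFactorial k) : Cfsg.Agent.Sharply.IsSharp k G β := by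
  classical
  refine ⟨ht, fun x => ?_⟩
  have hpos : 0 < (Fintype.card β).descFactorial k := Nat.descFactorial_pos.mpr hk
  have : Finite G := Nat.finite_of_card_ne_zero (by omega)
  have hfun : Function.Bijective (fun g : G => g • x) := by
    have hs : Function.Surjective (fun g : G => g • x) := fun y => ht.exists_smul_eq x y
    exact hs.bijective_of_nat_card_le (by
      rw [hc, Nat.card_eq_fintype_card, Fintype.card_embedding_eq, Fintype.card_fin])
  rw [eq_bot_iff]
  intro g hg
  rw [Subgroup.mem_bot]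
  apply hfun.1
  show g • x = (1 : G) • x
  rw [one_smul]
  exact hg

theorem card_aut11 (hB : Cfsg.IsSteinerSystem 4 5 B) (hv : Fintype.card α = 11) :
    Nat.card (Cfsg.setSystemAut B) = 7920 := by
  obtain ⟨e, he⟩ := exists_iso11 hB hv
  rw [Nat.card_congr (autEquiv he), card_isIso11 hB hv]

theorem card_aut12 (hB : Cfsg.IsSteinerSystem 5 6 B) (hv : Fintype.card α = 12) :
    Nat.card (Cfsg.setSystemAut B) = 95040 := by
  obtain ⟨e, he⟩ := exists_iso12 hB hv
  rw [Nat.card_congr (autEquiv he), card_isIso12 hB hv]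

theorem four_trans11 (hB : Cfsg.IsSteinerSystem 4 5 B) (hv : Fintype.card α = 11) :
    IsMultiplyPretransitive (Cfsg.setSystemAut B) α 4 :=
  multiplyPretransitive_of tuple11 (realise11 hB hv)

theorem five_trans12 (hB : Cfsg.IsSteinerSystem 5 6 B) (hv : Fintype.card α = 12) :
    IsMultiplyPretransitive (Cfsg.setSystemAut B) α 5 :=
  multiplyPretransitive_of tuple12 (realise12 hB hv)

theorem sharp_aut11 (hB : Cfsg.IsSteinerSystem 4 5 B) (hv : Fintype.card α = 11) :
    Cfsg.Agent.Sharply.IsSharp 4 (Cfsg.setSystemAut B) α :=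
  isSharp_of_card (four_trans11 hB hv) (by omega) (by rw [card_aut11 hB hv, hv]; rfl)

theorem sharp_aut12 (hB : Cfsg.IsSteinerSystem 5 6 B) (hv : Fintype.card α = 12) :
    Cfsg.Agent.Sharply.IsSharp 5 (Cfsg.setSystemAut B) α :=
  isSharp_of_card (five_trans12 hB hv) (by omega) (by rw [card_aut12 hB hv, hv]; rfl)

theorem simple_aut11 (hB : Cfsg.IsSteinerSystem 4 5 B) (hv : Fintype.card α = 11) :
    IsSimpleGroup (Cfsg.setSystemAut B) :=
  (Cfsg.Agent.Sharply.sharp_four_eleven (sharp_aut11 hB hv) hv).1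

theorem simple_aut12 (hB : Cfsg.IsSteinerSystem 5 6 B) (hv : Fintype.card α = 12) :
    IsSimpleGroup (Cfsg.setSystemAut B) :=
  (Cfsg.Agent.Sharply.sharp_five_twelve (sharp_aut12 hB hv) hv).1

end Cfsg.Agent.Design
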