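import Cfsg.Agent.Design.Bits
import Cfsg.Prelude.Def_Sporadic_a

/-!
Labellings of a block design by a list of bit masks, and their relation to the automorphism
group of the design.
-/

set_option autoImplicit false

namespace Cfsg.Agent.Design

open scoped Pointwise

variable {n : ℕ} {α : Type*}

/-- The labelling `e` identifies the masks in `L` with the blocks of `B`. -/
def IsIso (L : List ℕ) (B : Set (Finset α)) (e : Fin n ≃ α) : Prop :=
  ∀ s : Finset (Fin n), s.map e.toEmbedding ∈ B ↔ mask s ∈ L

theorem map_pull (e : Fin n ≃ α) (b : Finset α) :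
    (b.map e.symm.toEmbedding).map e.toEmbedding = b := by
  ext x; simp

theorem pull_map (e : Fin n ≃ α) (s : Finset (Fin n)) :
    (s.map e.toEmbedding).map e.symm.toEmbedding = s := by
  ext x; simp

theorem mask_pull_injective (e : Fin n ≃ α) :
    Function.Injective fun b : Finset α => mask (b.map e.symm.toEmbedding) :=
  fun _ _ h => Finset.map_injective _ (mask_inj h)

theorem IsIso.mask_pull_mem {L : List ℕ} {B : Set (Finset α)} {e : Fin n ≃ α} (he : IsIso L B e)
    {b : Finset α} (hb : b ∈ B) : mask (b.map e.symm.toEmbedding) ∈ L := by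
  rw [← he, map_pull]; exact hb

/-- A labelling sending all blocks into a list that is not too long is an isomorphism. -/
theorem isIso_of_subset [Finite α] {L : List ℕ} {B : Set (Finset α)} {e : Fin n ≃ α}
    (h : ∀ b ∈ B, mask (b.map e.symm.toEmbedding) ∈ L) (hlen : L.length ≤ B.ncard) :
    IsIso L B e := by
  classical
  have hfin : B.Finite := Set.toFinite B
  have heq : hfin.toFinset.image (fun b => mask (b.map e.symm.toEmbedding)) = L.toFinset := by
    apply Finset.eq_of_subset_of_card_le
    · intro m hm
      simp only [Finset.mem_image, Set.Finite.mem_toFinset] at hm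
      obtain ⟨b, hb, rfl⟩ := hm
      exact List.mem_toFinset.mpr (h b hb)
    · rw [Finset.card_image_of_injective _ (mask_pull_injective e),
        ← Set.ncard_eq_toFinset_card B hfin]
      exact L.toFinset_card_le.trans hlen
  intro s
  constructor
  · intro hs
    have := h _ hs
    rwa [pull_map] at this
  · intro hs
    rw [← List.mem_toFinset, ← heq, Finset.mem_image] at hs
    obtain ⟨b, hb, hbs⟩ := hs
    rw [← mask_inj hbs, map_pull]
    exact hfin.mem_toFinset.mp hb

theorem setSystemIso_of {β : Type*} [DecidableEq β] {L : List ℕ} {B : Set (Finset α)}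
    {B' : Set (Finset β)} {e : Fin n ≃ α} {e' : Fin n ≃ β} (h : IsIso L B e)
    (h' : IsIso L B' e') : Cfsg.SetSystemIso B B' := by
  refine ⟨e.symm.trans e', ?_⟩
  ext c
  have key : ∀ b : Finset α,
      b.image (e.symm.trans e') = (b.map e.symm.toEmbedding).map e'.toEmbedding := by
    intro b; rw [Finset.map_map, Finset.map_eq_image]; rfl
  constructor
  · rintro ⟨b, hb, rfl⟩
    simp only [key]
    exact (h' _).mpr (h.mask_pull_mem hb)
  · intro hc
    refine ⟨(c.map e'.symm.toEmbedding).map e.toEmbedding, (h _).mpr (h'.mask_pull_mem hc), ?_⟩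
    simp only [key, pull_map, map_pull]

section Aut

variable [DecidableEq α]

theorem mem_aut {B : Set (Finset α)} {g : Equiv.Perm α} :
    g ∈ Cfsg.setSystemAut B ↔ ∀ b : Finset α, b.map g.toEmbedding ∈ B ↔ b ∈ B := by
  have key : ∀ b : Finset α, g • b = b.map g.toEmbedding := by
    intro b
    rw [Finset.map_eq_image]
    rfl
  constructor
  · intro h b
    rw [← key]
    exact (MulAction.mem_stabilizer_set.mp h) b
  · intro h
    refine MulAction.mem_stabilizer_set.mpr fun b => ?_
    rw [key]
    exact h b

theorem IsIso.trans_aut {L : List ℕ} {B : Set (Finset α)} {e : Fin n ≃ α} (he : IsIso L B e)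
    {g : Equiv.Perm α} (hg : g ∈ Cfsg.setSystemAut B) : IsIso L B (e.trans g) := by
  intro s
  rw [← he s, ← mem_aut.mp hg (s.map e.toEmbedding), Finset.map_map]
  rfl

theorem aut_of_isIso {L : List ℕ} {B : Set (Finset α)} {e e' : Fin n ≃ α} (he : IsIso L B e)
    (he' : IsIso L B e') : e.symm.trans e' ∈ Cfsg.setSystemAut B := by
  rw [mem_aut]
  intro b
  have h1 : b.map (e.symm.trans e').toEmbedding =
      (b.map e.symm.toEmbedding).map e'.toEmbedding := by
    rw [Finset.map_map]; rfl
  rw [h1, he', ← he, map_pull]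

/-- A fixed labelling identifies the automorphism group with the set of all labellings. -/
def autEquiv {L : List ℕ} {B : Set (Finset α)} {e₀ : Fin n ≃ α} (h₀ : IsIso L B e₀) :
    Cfsg.setSystemAut B ≃ {e : Fin n ≃ α // IsIso L B e} where
  toFun g := ⟨e₀.trans g.1, h₀.trans_aut g.2⟩
  invFun e := ⟨e₀.symm.trans e.1, aut_of_isIso h₀ e.2⟩
  left_inv g := by ext x; simp
  right_inv e := by ext x; simp

theorem multiplyPretransitive_of {L : List ℕ} {B : Set (Finset α)} {k : ℕ} (u : Fin k → Fin n)
    (h : ∀ y : Fin k ↪ α, ∃ e : Fin n ≃ α, IsIso L B e ∧ ∀ i, e (u i) = y i) :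
    MulAction.IsMultiplyPretransitive (Cfsg.setSystemAut B) α k := by
  rw [MulAction.isMultiplyPretransitive_iff]
  intro x y
  obtain ⟨e, he, hex⟩ := h x
  obtain ⟨e', he', hey⟩ := h y
  refine ⟨⟨e.symm.trans e', aut_of_isIso he he'⟩, ?_⟩
  ext i
  show (e.symm.trans e') (x i) = y i
  rw [← hex i]
  simp [hey i]

end Aut

/-- The mask of an image, computed from the list of values. -/
def mapMask : List ℕ → ℕ → ℕ
  | [], _ => 0
  | v :: l, m => (if m % 2 == 1 then 2 ^ v else 0) + mapMask l (m / 2)

theorem mapMask_ofFn : ∀ {n : ℕ} (f : Fin n → ℕ) (m : ℕ),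
    mapMask (List.ofFn f) m = ∑ i : Fin n, if m.testBit i then 2 ^ f i else 0
  | 0, f, m => by simp [mapMask]
  | n + 1, f, m => by
    rw [List.ofFn_succ, mapMask, mapMask_ofFn, Fin.sum_univ_succ]
    congr 1
    · simp [Nat.testBit_zero]
    · refine Finset.sum_congr rfl fun i _ => ?_
      simp [Nat.testBit_succ]

theorem mask_map (σ : Equiv.Perm (Fin n)) (s : Finset (Fin n)) :
    mask (s.map σ.toEmbedding) = mapMask (List.ofFn fun i => (σ i : ℕ)) (mask s) := by
  rw [mapMask_ofFn, mask, Finset.sum_map]
  simp only [testBit_mask, decide_eq_true_eq]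
  rw [Finset.sum_ite_mem, Finset.univ_inter]
  rfl

/-- Boolean membership test for lists of natural numbers. -/
def memb (a : ℕ) : List ℕ → Bool
  | [] => false
  | b :: l => Nat.beq a b || memb a l

theorem memb_iff {a : ℕ} {l : List ℕ} : memb a l = true ↔ a ∈ l := by
  induction l with
  | nil => simp [memb]
  | cons b l ih => rw [memb, Bool.or_eq_true, Nat.beq_eq, ih, List.mem_cons]

/-- The relabelling `σ` maps the masks of `L` into `L'`. -/
def mapsInto (σ : Equiv.Perm (Fin n)) (L L' : List ℕ) : Bool :=
  L.all fun m => memb (mapMask (List.ofFn fun i => (σ i : ℕ)) m) L'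

/-- A relabelling mapping `L` into an equally long duplicate-free list maps it onto that list. -/
theorem mapsInto_iff {σ : Equiv.Perm (Fin n)} {L L' : List ℕ} (h : mapsInto σ L L' = true)
    (hb : ∀ m ∈ L, m < 2 ^ n) (hnd : L.Nodup) (hlen : L'.length ≤ L.length)
    (s : Finset (Fin n)) : mask (s.map σ.toEmbedding) ∈ L' ↔ mask s ∈ L := by
  classical
  have hmap : ∀ m ∈ L, mask ((bits n m).map σ.toEmbedding) ∈ L' := by
    intro m hm
    rw [mask_map, mask_bits (hb m hm)]
    exact memb_iff.mp (List.all_eq_true.mp h m hm)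
  constructor
  · intro hs
    have heq : L.toFinset.image (fun m => mask ((bits n m).map σ.toEmbedding)) = L'.toFinset := by
      apply Finset.eq_of_subset_of_card_le
      · intro x hx
        simp only [Finset.mem_image, List.mem_toFinset] at hx
        obtain ⟨m, hm, rfl⟩ := hx
        exact List.mem_toFinset.mpr (hmap m hm)
      · rw [Finset.card_image_of_injOn, List.toFinset_card_of_nodup hnd]
        · exact L'.toFinset_card_le.trans hlen
        · intro a ha b hb' hab
          have h1 := Finset.map_injective _ (mask_inj hab)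
          exact bits_inj (hb a (List.mem_toFinset.mp ha)) (hb b (List.mem_toFinset.mp hb')) h1
    rw [← List.mem_toFinset, ← heq, Finset.mem_image] at hs
    obtain ⟨m, hm, hms⟩ := hs
    rw [List.mem_toFinset] at hm
    rw [← Finset.map_injective _ (mask_inj hms), mask_bits (hb m hm)]
    exact hm
  · intro hs
    have := hmap _ hs
    rwa [bits_mask] at this

theorem IsIso.relabel {L : List ℕ} {B : Set (Finset α)} {e : Fin n ≃ α} (he : IsIso L B e)
    {σ : Equiv.Perm (Fin n)} (h : mapsInto σ L L = true) (hb : ∀ m ∈ L, m < 2 ^ n)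
    (hnd : L.Nodup) : IsIso L B (σ.trans e) := by
  intro s
  rw [← mapsInto_iff h hb hnd le_rfl s, ← he, Finset.map_map]
  rfl

/-- A product of transpositions given by a list of pairs. -/
def swaps {n : ℕ} (l : List (Fin n × Fin n)) : Equiv.Perm (Fin n) :=
  (l.map fun p => Equiv.swap p.1 p.2).prod

theorem sign_swaps {n : ℕ} : ∀ (l : List (Fin n × Fin n)), (∀ p ∈ l, p.1 ≠ p.2) →
    Equiv.Perm.sign (swaps l) = (-1) ^ l.length
  | [], _ => by simp [swaps]
  | p :: l, h => by
    have : swaps (p :: l) = Equiv.swap p.1 p.2 * swaps l := by simp [swaps]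
    rw [this, map_mul, sign_swaps l (fun q hq => h q (List.mem_cons_of_mem _ hq)),
      Equiv.Perm.sign_swap (h p List.mem_cons_self), List.length_cons, pow_succ']

end Cfsg.Agent.Design
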