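import Cfsg.Agent.Design.Step
import Cfsg.Agent.Design.Enum
import Cfsg.Agent.Design.DataSmall

/-!
The Steiner systems S(2,3,9), S(3,4,10), S(4,5,11) and S(5,6,12): uniqueness and labellings.
-/

set_option autoImplicit false

namespace Cfsg.Agent.Design

open Cfsg.Agent.SteinerCount

/-- An exact cover by sets with masks among the candidates lies in one of the listed classes. -/
theorem exact_cover_cases {n N : ℕ} (S : Set (Finset (Fin n))) (cands items : List ℕ)
    (hS : S.ncard ≤ N) (hcand : ∀ r ∈ S, mask r ∈ cands)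
    (hitem : ∀ x ∈ items, x < 2 ^ n ∧ ∃! r, r ∈ S ∧ bits n x ⊆ r)
    (hnd : items.Nodup) (classes : List (List ℕ))
    (hcheck : ((covers items.length items cands []).all fun T =>
      decide (N ≤ T.length) && classes.any fun C => T.all fun x => memb x C) = true) :
    ∃ C ∈ classes, ∀ r ∈ S, mask r ∈ C := by
  classical
  obtain ⟨T, hT, hTnd, hTR⟩ := covers_spec (fun c => ∃ r ∈ S, mask r = c) items.length items cands []
    hnd le_rfl
    (by
      intro x hx
      obtain ⟨hxn, r, ⟨hr, hsub⟩, -⟩ := hitem x hx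
      refine ⟨mask r, ⟨r, hr, rfl⟩, hcand r hr, ?_⟩
      rw [sub_eq_true hxn, bits_mask]
      exact hsub)
    (by
      rintro x hx _ _ ⟨r, hr, rfl⟩ ⟨r', hr', rfl⟩ h h'
      obtain ⟨hxn, _, -, hu⟩ := hitem x hx
      rw [sub_eq_true hxn, bits_mask] at h h'
      rw [hu r ⟨hr, h⟩, hu r' ⟨hr', h'⟩])
    (by simp) List.nodup_nil (by simp)
  have hc := List.all_eq_true.mp hcheck T hT
  rw [Bool.and_eq_true, decide_eq_true_eq, List.any_eq_true] at hc
  obtain ⟨hlen, C, hC, hTC⟩ := hc
  refine ⟨C, hC, fun r hr => ?_⟩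
  have heq : T.toFinset = (Set.toFinite S).toFinset.image mask := by
    apply Finset.eq_of_subset_of_card_le
    · intro c hc
      rw [List.mem_toFinset] at hc
      obtain ⟨r, hr, rfl⟩ := hTR c hc
      exact Finset.mem_image_of_mem _ ((Set.Finite.mem_toFinset _).mpr hr)
    · rw [List.toFinset_card_of_nodup hTnd, Finset.card_image_of_injective _ fun _ _ h => mask_inj h,
        ← Set.ncard_eq_toFinset_card S]
      omega
  have : mask r ∈ T.toFinset := by
    rw [heq]
    exact Finset.mem_image_of_mem _ ((Set.Finite.mem_toFinset _).mpr hr)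
  exact memb_iff.mp (List.all_eq_true.mp hTC _ (List.mem_toFinset.mp this))

variable {α : Type*} [DecidableEq α] {B : Set (Finset α)}

/-- Completions of a derived system whose blocks are one larger than its strength. -/
theorem rest_classes [Fintype α] {T n N : ℕ} {L : List ℕ} (classes : List (List ℕ))
    (hn : Fintype.card α = n + 1) (hB : Cfsg.IsSteinerSystem T (T + 1) B) {q : α}
    {e : Fin n ≃ {x : α // x ≠ q}} (he : IsIso L (derived B q) e)
    (hb : ∀ m ∈ L, m < 2 ^ n ∧ wt n m = T) (hndL : L.Nodup) (hN : B.ncard ≤ L.length + N)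
    (hnd : (avoidCands n T L).Nodup) (hlt : ∀ x ∈ avoidCands n T L, x < 2 ^ n)
    (hav : ((avoidCands n T L).all fun x => L.all fun f => !(sub f x)) = true)
    (hwt : ∀ x ∈ avoidCands n T L, wt n x = T)
    (hcheck : ((covers (avoidCands n T L).length (avoidCands n T L) (avoidCands n (T + 1) L) []).all
      fun T => decide (N ≤ T.length) && classes.any fun C => T.all fun x => memb x C) = true) :
    ∃ C ∈ classes, ∀ r ∈ rest B e, mask r ∈ C := by
  classical
  let φ : Fin n ↪ α := e.toEmbedding.trans (Function.Embedding.subtype _)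
  have hqφ : ∀ r : Finset (Fin n), q ∉ r.map φ := by
    intro r h
    obtain ⟨i, -, hi⟩ := Finset.mem_map.mp h
    exact (e i).2 hi
  have hder : ∀ f ∈ L, ∃ c ∈ B, q ∈ c ∧ ∀ r : Finset (Fin n), r ⊆ bits n f → r.map φ ⊆ c := by
    intro f hf
    have hc : (bits n f).map e.toEmbedding ∈ derived B q :=
      (he _).mpr (by rwa [mask_bits (hb f hf).1])
    rw [mem_derived, Finset.cons_eq_insert, Finset.map_map] at hc
    exact ⟨_, hc, Finset.mem_insert_self _ _, fun r hr =>
      (Finset.map_subset_map.mpr hr).trans (Finset.subset_insert _ _)⟩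
  refine exact_cover_cases (rest B e) (avoidCands n (T + 1) L) (avoidCands n T L) ?_ ?_ ?_ hnd
    classes hcheck
  · -- the number of blocks avoiding q
    have hfin := Set.toFinite (rest B e)
    let D : Finset (Finset (Fin n)) := L.toFinset.image (bits n)
    have hDcard : D.card = L.length := by
      rw [Finset.card_image_of_injOn, List.toFinset_card_of_nodup hndL]
      intro a ha b hb' h
      exact bits_inj (hb a (List.mem_toFinset.mp ha)).1 (hb b (List.mem_toFinset.mp hb')).1 h
    let F₁ := hfin.toFinset.map ⟨fun r => r.map φ, Finset.map_injective φ⟩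
    let F₂ := D.map ⟨fun r => insert q (r.map φ), fun a b h => by
      have h' := congrArg (fun s : Finset α => s.erase q) h
      simp only [Finset.erase_insert (hqφ _)] at h'
      exact Finset.map_injective φ h'⟩
    have hd : Disjoint F₁ F₂ := by
      rw [Finset.disjoint_left]
      intro b h1 h2
      obtain ⟨r, -, rfl⟩ := Finset.mem_map.mp h1
      obtain ⟨r', -, h⟩ := Finset.mem_map.mp h2
      have h' : insert q (r'.map φ) = r.map φ := h
      exact hqφ r (h' ▸ Finset.mem_insert_self _ _)
    have hsub : ∀ b ∈ F₁ ∪ F₂, b ∈ B := by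
      intro b hb'
      rcases Finset.mem_union.mp hb' with h | h
      · obtain ⟨r, hr, rfl⟩ := Finset.mem_map.mp h
        exact hfin.mem_toFinset.mp hr
      · obtain ⟨r, hr, rfl⟩ := Finset.mem_map.mp h
        obtain ⟨f, hf, rfl⟩ := Finset.mem_image.mp hr
        have hc : (bits n f).map e.toEmbedding ∈ derived B q :=
          (he _).mpr (by rw [mask_bits (hb f (List.mem_toFinset.mp hf)).1]; exact List.mem_toFinset.mp hf)
        rw [mem_derived, Finset.cons_eq_insert, Finset.map_map] at hc
        exact hc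
    have h1 : (F₁ ∪ F₂).card ≤ B.ncard := by
      rw [← Set.ncard_coe_finset]
      exact Set.ncard_le_ncard hsub
    rw [Finset.card_union_of_disjoint hd, Finset.card_map, Finset.card_map, hDcard,
      ← Set.ncard_eq_toFinset_card] at h1
    omega
  · intro r hr
    refine mem_avoidCands (fun f hf => (hb f hf).1) r (by rw [← hB.1 _ hr, Finset.card_map]) ?_
    intro f hf hsub
    obtain ⟨c, hc, hqc, hfc⟩ := hder f hf
    have : r.map φ = c := by
      refine eq_of_two_le_inter hB hr hc ?_
      rw [← (hb f hf).2, ← card_bits, ← Finset.card_map φ]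
      exact Finset.card_le_card (Finset.subset_inter (Finset.map_subset_map.mpr hsub) (hfc _ le_rfl))
    exact hqφ r (this ▸ hqc)
  · intro x hx
    refine ⟨hlt x hx, ?_⟩
    obtain ⟨b, ⟨hbB, hsub⟩, hu⟩ := hB.2 ((bits n x).map φ)
      (by rw [Finset.card_map, card_bits, hwt x hx])
    have hqb : q ∉ b := by
      intro hq
      -- the derived block through x would be forbidden
      obtain ⟨r, hr⟩ : ∃ r : Finset (Fin n), r = Finset.univ.filter fun i => φ i ∈ b := ⟨_, rfl⟩
      have hbr : Finset.cons q ((r.map e.toEmbedding).map (Function.Embedding.subtype _))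
          (by simp) = b := by
        ext y
        rw [Finset.mem_cons, Finset.map_map, Finset.mem_map]
        constructor
        · rintro (rfl | ⟨i, hi, rfl⟩)
          · exact hq
          · rw [hr, Finset.mem_filter] at hi
            exact hi.2
        · intro hy
          by_cases hyq : y = q
          · exact Or.inl hyq
          · refine Or.inr ⟨e.symm ⟨y, hyq⟩, ?_, by simp⟩
            rw [hr, Finset.mem_filter]
            exact ⟨Finset.mem_univ _, by simp [φ, hy]⟩
      have hrd : r.map e.toEmbedding ∈ derived B q := by rw [mem_derived, hbr]; exact hbB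
      have hrL := (he r).mp hrd
      have h := List.all_eq_true.mp (List.all_eq_true.mp hav x hx) _ hrL
      rw [Bool.not_eq_true', ← Bool.not_eq_true, sub_eq_true (mask_lt r), bits_mask] at h
      apply h
      have hxr : bits n x ⊆ r := fun i hi => by
        rw [hr, Finset.mem_filter]
        exact ⟨Finset.mem_univ _, hsub (Finset.mem_map_of_mem φ hi)⟩
      have hrc : r.card = T := by
        rw [← (hb _ hrL).2, wt_mask]
      rw [Finset.eq_of_subset_of_card_le hxr (by rw [hrc, card_bits, hwt x hx])]
    have hmap : (Finset.univ.filter fun i => φ i ∈ b).map φ = b := by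
      ext y
      rw [Finset.mem_map]
      constructor
      · rintro ⟨i, hi, rfl⟩
        exact (Finset.mem_filter.mp hi).2
      · intro hy
        have hyq : y ≠ q := fun h => hqb (h ▸ hy)
        exact ⟨e.symm ⟨y, hyq⟩, by simp [φ, hy], by simp [φ]⟩
    refine ⟨Finset.univ.filter fun i => φ i ∈ b, ⟨?_, ?_⟩, ?_⟩
    · show (Finset.univ.filter fun i => φ i ∈ b).map φ ∈ B
      rw [hmap]; exact hbB
    · intro i hi
      exact Finset.mem_filter.mpr ⟨Finset.mem_univ _, hsub (Finset.mem_map_of_mem φ hi)⟩
    · rintro r ⟨hr, hxr⟩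
      apply Finset.map_injective φ
      rw [hmap]
      exact hu _ ⟨hr, Finset.map_subset_map.mpr hxr⟩

/-! ### The affine plane of order 3 -/

/-- Lines known after choosing a triangle. -/
def known9 : List ℕ := [7, 25, 42, 97]

/-- The triples compatible with the known lines. -/
def cands9 : List ℕ :=
  (avoidCands 9 3 []).filter fun t => known9.all fun K => Nat.beq t K || decide (wt 9 (t &&& K) ≤ 1)

/-- The exchange of the last two labels. -/
def swap9 : Equiv.Perm (Fin 9) := Equiv.swap 7 8

/-- The second completion of the known lines. -/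
def list9' : List ℕ := Data.list9.map (mapMask (List.ofFn fun i => (swap9 i : ℕ)))

theorem items9_facts : (avoidCands 9 2 []).Nodup ∧
    ((avoidCands 9 2 []).all fun x => decide (x < 2 ^ 9) && Nat.beq (wt 9 x) 2) = true := by
  decide +kernel

theorem check9 : ((covers (avoidCands 9 2 []).length (avoidCands 9 2 []) cands9 []).all fun T =>
    decide (12 ≤ T.length) &&
      [Data.list9, list9'].any fun C => T.all fun x => memb x C) = true := by decide +kernel

theorem swap9_facts : mapsInto swap9 Data.list9 list9' = true ∧ Data.list9.Nodup ∧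
    list9'.length = 12 ∧ Data.list9.length = 12 ∧
    (Data.list9.all fun m => decide (m < 2 ^ 9)) = true := by decide +kernel

theorem known9_masks : mask ({0, 1, 2} : Finset (Fin 9)) = 7 ∧
    mask ({0, 3, 4} : Finset (Fin 9)) = 25 ∧ mask ({1, 3, 5} : Finset (Fin 9)) = 42 ∧
    mask ({0, 5, 6} : Finset (Fin 9)) = 97 := by decide +kernel

/-- Lines of the standard plane used to propagate agreement. -/
theorem lines9 : ∀ p ∈ ([(0, 1, 2), (0, 3, 4), (1, 3, 5), (0, 5, 6), (2, 3, 7), (4, 1, 8)] :
    List (Fin 9 × Fin 9 × Fin 9)),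
    memb (mask ({p.1, p.2.1, p.2.2} : Finset (Fin 9))) Data.list9 = true ∧
      p.1 ≠ p.2.1 ∧ p.2.2 ≠ p.1 ∧ p.2.2 ≠ p.2.1 := by decide +kernel

theorem notline9 : memb (mask ({0, 1, 3} : Finset (Fin 9))) Data.list9 = false := by decide +kernel

variable [Fintype α]

/-- The third point of the line through two points. -/
theorem exists_third (hB : Cfsg.IsSteinerSystem 2 3 B) {a b : α} (hab : a ≠ b) :
    ∃ c, c ≠ a ∧ c ≠ b ∧ ({a, b, c} : Finset α) ∈ B := by
  obtain ⟨l, ⟨hl, hs⟩, -⟩ := hB.2 {a, b} (Finset.card_pair hab)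
  obtain ⟨c, hc, hc'⟩ := Finset.exists_mem_notMem_of_card_lt_card
    (show ({a, b} : Finset α).card < l.card by rw [Finset.card_pair hab, hB.1 l hl]; norm_num)
  simp only [Finset.mem_insert, Finset.mem_singleton, not_or] at hc'
  refine ⟨c, hc'.1, hc'.2, ?_⟩
  rw [Finset.eq_of_subset_of_card_le (s := {a, b, c}) (t := l) (by
    intro x hx
    simp only [Finset.mem_insert, Finset.mem_singleton] at hx
    simp only [Finset.insert_subset_iff, Finset.singleton_subset_iff] at hs
    rcases hx with rfl | rfl | rfl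
    exacts [hs.1, hs.2, hc]) (by
    rw [hB.1 l hl, Finset.card_eq_three.mpr
      ⟨a, b, c, hab, Ne.symm hc'.1, Ne.symm hc'.2, rfl⟩])]
  exact hl

theorem line_eq (hB : Cfsg.IsSteinerSystem 2 3 B) {l m : Finset α} (hl : l ∈ B) (hm : m ∈ B)
    {x y : α} (hxy : x ≠ y) (hx : x ∈ l) (hy : y ∈ l) (hx' : x ∈ m) (hy' : y ∈ m) : l = m := by
  refine eq_of_two_le_inter hB hl hm ?_
  rw [← Finset.card_pair hxy]
  apply Finset.card_le_card
  intro z hz
  simp only [Finset.mem_insert, Finset.mem_singleton] at hz
  rcases hz with rfl | rfl <;> simp [hx, hy, hx', hy']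

/-- A triangle extends to a labelling. -/
theorem exists_triangle_iso (hB : Cfsg.IsSteinerSystem 2 3 B) (hv : Fintype.card α = 9) {a b c : α}
    (hab : a ≠ b) (hac : a ≠ c) (hbc : b ≠ c) (hnc : ({a, b, c} : Finset α) ∉ B) :
    ∃ e : Fin 9 ≃ α, (e 0 = a ∧ e 1 = b ∧ e 3 = c) ∧ IsIso Data.list9 B e := by
  classical
  obtain ⟨d, hda, hdb, hd⟩ := exists_third hB hab
  obtain ⟨g, hga, hgc, hg⟩ := exists_third hB hac
  obtain ⟨h, hhb, hhc, hh⟩ := exists_third hB hbc
  have hdc : d ≠ c := fun e => hnc (e ▸ hd)
  have hgb : g ≠ b := fun e => hnc (by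
    rw [e] at hg; convert! hg using 1; ext x; simp only [Finset.mem_insert, Finset.mem_singleton]; tauto)
  have hha : h ≠ a := fun e => hnc (by
    rw [e] at hh; convert! hh using 1; ext x; simp only [Finset.mem_insert, Finset.mem_singleton]; tauto)
  have hdg : d ≠ g := fun e => by
    have := line_eq hB hd hg hda.symm (by simp) (by simp) (by simp) (by simp [e])
    have hb' : b ∈ ({a, c, g} : Finset α) := this ▸ by simp
    simp only [Finset.mem_insert, Finset.mem_singleton] at hb'
    rcases hb' with e' | e' | e'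
    exacts [hab e'.symm, hbc e', hgb e'.symm]
  have hdh : d ≠ h := fun e => by
    have := line_eq hB hd hh hdb.symm (by simp) (by simp) (by simp) (by simp [e])
    have ha' : a ∈ ({b, c, h} : Finset α) := this ▸ by simp
    simp only [Finset.mem_insert, Finset.mem_singleton] at ha'
    rcases ha' with e' | e' | e'
    exacts [hab e', hac e', hha e'.symm]
  have hgh : g ≠ h := fun e => by
    have := line_eq hB hg hh hgc.symm (by simp) (by simp) (by simp) (by simp [e])
    have ha' : a ∈ ({b, c, h} : Finset α) := this ▸ by simp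
    simp only [Finset.mem_insert, Finset.mem_singleton] at ha'
    rcases ha' with e' | e' | e'
    exacts [hab e', hac e', hha e'.symm]
  obtain ⟨i, hia, hih, hi⟩ := exists_third hB hha.symm
  have hnot : ∀ x y : α, ({a, x, y} : Finset α) ∈ B → h ≠ x → h ≠ y → i ≠ x ∧ i ≠ y := by
    intro x y hxy hhx hhy
    constructor <;> intro e
    · have := line_eq hB hxy hi hia.symm (by simp) (by simp [e]) (by simp) (by simp)
      have h' : h ∈ ({a, x, y} : Finset α) := this ▸ by simp
      simp only [Finset.mem_insert, Finset.mem_singleton] at h'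
      rcases h' with e' | e' | e'
      exacts [hha e', hhx e', hhy e']
    · have := line_eq hB hxy hi hia.symm (by simp) (by simp [e]) (by simp) (by simp)
      have h' : h ∈ ({a, x, y} : Finset α) := this ▸ by simp
      simp only [Finset.mem_insert, Finset.mem_singleton] at h'
      rcases h' with e' | e' | e'
      exacts [hha e', hhx e', hhy e']
  obtain ⟨hib, hid⟩ := hnot b d hd hhb hdh.symm
  obtain ⟨hic, hig⟩ := hnot c g hg hhc hgh.symm
  let l : List α := [a, b, d, c, g, h, i]
  have hnd : l.Nodup := by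
    simp only [l, List.nodup_cons, List.mem_cons, List.not_mem_nil, or_false, not_or, List.nodup_nil,
      not_false_eq_true, and_true]
    exact ⟨⟨hab, hda.symm, hac, hga.symm, hha.symm, hia.symm⟩,
      ⟨hdb.symm, hbc, hgb.symm, hhb.symm, hib.symm⟩, ⟨hdc, hdg, hdh, hid.symm⟩,
      ⟨hgc.symm, hhc.symm, hic.symm⟩, ⟨hgh, hig.symm⟩, hih.symm⟩
  let more := l ++ (Finset.univ \ l.toFinset).toList
  have hmnd : more.Nodup := by
    refine List.nodup_append.mpr ⟨hnd, Finset.nodup_toList _, fun x hx y hy e => ?_⟩
    rw [Finset.mem_toList, Finset.mem_sdiff, List.mem_toFinset] at hy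
    exact hy.2 (e ▸ hx)
  have hmlen : more.length = 9 := by
    simp only [more, List.length_append, Finset.length_toList]
    rw [Finset.card_sdiff_of_subset (Finset.subset_univ _), List.toFinset_card_of_nodup hnd,
      Finset.card_univ, hv]
    rfl
  let g0 : Fin 9 → α := fun x => more.get (x.cast hmlen.symm)
  have hinj : Function.Injective g0 := fun x y e => by
    simpa using List.nodup_iff_injective_get.mp hmnd e
  have hbij : Function.Bijective g0 :=
    (Fintype.bijective_iff_injective_and_card g0).mpr ⟨hinj, by simp [hv]⟩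
  let e0 := Equiv.ofBijective g0 hbij
  have hknown : ∀ x y z : Fin 9, ({g0 x, g0 y, g0 z} : Finset α) ∈ B →
      ∀ s : Finset (Fin 9), s.map e0.toEmbedding ∈ B →
        mask s = mask ({x, y, z} : Finset (Fin 9)) ∨ (s ∩ {x, y, z}).card ≤ 1 := by
    intro x y z hxyz s hs
    by_contra hcon
    push Not at hcon
    apply hcon.1
    congr 1
    apply Finset.map_injective e0.toEmbedding
    have himg : ({x, y, z} : Finset (Fin 9)).map e0.toEmbedding = {g0 x, g0 y, g0 z} := by
      simp [e0, Finset.map_insert]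
    rw [himg]
    refine eq_of_two_le_inter hB hs hxyz ?_
    rw [← himg, ← Finset.map_inter, Finset.card_map]
    exact hcon.2
  have h012 : ({g0 0, g0 1, g0 2} : Finset α) ∈ B := hd
  have h034 : ({g0 0, g0 3, g0 4} : Finset α) ∈ B := hg
  have h135 : ({g0 1, g0 3, g0 5} : Finset α) ∈ B := hh
  have h056 : ({g0 0, g0 5, g0 6} : Finset α) ∈ B := hi
  obtain ⟨C, hC, hall⟩ : ∃ C ∈ [Data.list9, list9'],
      ∀ r ∈ {s : Finset (Fin 9) | s.map e0.toEmbedding ∈ B}, mask r ∈ C := by
    refine exact_cover_cases (N := 12) _ cands9 (avoidCands 9 2 []) ?_ ?_ ?_ items9_facts.1 _ check9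
    · rw [← card_blocks (N := 12) hB hv (by decide) (by decide)]
      exact Set.ncard_le_ncard_of_injOn (fun s : Finset (Fin 9) => s.map e0.toEmbedding)
        (fun s hs => hs) (fun s _ t _ e => Finset.map_injective _ e)
    · intro s hs
      rw [cands9, List.mem_filter]
      refine ⟨mem_avoidCands (by simp) s (by rw [← hB.1 _ hs, Finset.card_map]) (by simp), ?_⟩
      rw [List.all_eq_true]
      obtain ⟨k1, k2, k3, k4⟩ := known9_masks
      have key : ∀ x y z : Fin 9, ({g0 x, g0 y, g0 z} : Finset α) ∈ B →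
          (Nat.beq (mask s) (mask ({x, y, z} : Finset (Fin 9))) ||
            decide (wt 9 (mask s &&& mask ({x, y, z} : Finset (Fin 9))) ≤ 1)) = true := by
        intro x y z hxyz
        rw [Bool.or_eq_true, Nat.beq_eq, decide_eq_true_eq, ← card_bits, bits_land, bits_mask, bits_mask]
        exact hknown x y z hxyz s hs
      intro K hK
      simp only [known9, List.mem_cons, List.not_mem_nil, or_false] at hK
      rcases hK with rfl | rfl | rfl | rfl
      · rw [← k1]; exact key 0 1 2 h012
      · rw [← k2]; exact key 0 3 4 h034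
      · rw [← k3]; exact key 1 3 5 h135
      · rw [← k4]; exact key 0 5 6 h056
    · intro x hx
      have hx' := List.all_eq_true.mp items9_facts.2 x hx
      rw [Bool.and_eq_true, decide_eq_true_eq, Nat.beq_eq] at hx'
      refine ⟨hx'.1, ?_⟩
      obtain ⟨l, ⟨hl, hsub⟩, hu⟩ := hB.2 ((bits 9 x).map e0.toEmbedding)
        (by rw [Finset.card_map, card_bits, hx'.2])
      refine ⟨l.map e0.symm.toEmbedding, ⟨by show _ ∈ B; rw [map_pull]; exact hl, ?_⟩, ?_⟩
      · rw [← Finset.map_subset_map (f := e0.toEmbedding), map_pull]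
        exact hsub
      · rintro r ⟨hr, hxr⟩
        rw [← hu _ ⟨hr, Finset.map_subset_map.mpr hxr⟩, pull_map]
  obtain ⟨hsw, hnd9, hlen', hlen, hbd⟩ := swap9_facts
  have hbd' : ∀ m ∈ Data.list9, m < 2 ^ 9 := fun m hm => of_decide_eq_true (List.all_eq_true.mp hbd m hm)
  have hB12 : B.ncard = 12 := card_blocks (N := 12) hB hv (by decide) (by decide)
  simp only [List.mem_cons, List.not_mem_nil, or_false] at hC
  rcases hC with rfl | rfl
  · refine ⟨e0, ⟨rfl, rfl, rfl⟩, isIso_of_subset (fun b hb => ?_) (by omega)⟩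
    exact hall _ (by show _ ∈ B; rw [map_pull]; exact hb)
  · have hiso : IsIso list9' B e0 := isIso_of_subset
      (fun b hb => hall _ (by show _ ∈ B; rw [map_pull]; exact hb)) (by omega)
    refine ⟨swap9.trans e0, ⟨rfl, rfl, rfl⟩, fun s => ?_⟩
    rw [← mapsInto_iff hsw hbd' hnd9 (by omega) s, ← hiso, Finset.map_map]
    rfl

theorem agree_third (hB : Cfsg.IsSteinerSystem 2 3 B) {e e' : Fin 9 ≃ α}
    (he : IsIso Data.list9 B e) (he' : IsIso Data.list9 B e') {x y z : Fin 9}
    (hL : memb (mask ({x, y, z} : Finset (Fin 9))) Data.list9 = true) (hxy : x ≠ y)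
    (hzx : z ≠ x) (hzy : z ≠ y) (hx : e x = e' x) (hy : e y = e' y) : e z = e' z := by
  have h1 := (he _).mpr (memb_iff.mp hL)
  have h2 := (he' _).mpr (memb_iff.mp hL)
  have : ({x, y, z} : Finset (Fin 9)).map e.toEmbedding =
      ({x, y, z} : Finset (Fin 9)).map e'.toEmbedding := by
    refine eq_of_two_le_inter hB h1 h2 ?_
    rw [← Finset.card_pair (e.injective.ne hxy)]
    apply Finset.card_le_card
    intro w hw
    simp only [Finset.mem_insert, Finset.mem_singleton] at hw
    rcases hw with rfl | rfl <;> simp [hx, hy]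
  have hz : e z ∈ ({x, y, z} : Finset (Fin 9)).map e'.toEmbedding := this ▸ by simp
  obtain ⟨w, hw, hwz⟩ := Finset.mem_map.mp hz
  simp only [Finset.mem_insert, Finset.mem_singleton] at hw
  rcases hw with rfl | rfl | rfl
  · exact absurd (e.injective (hwz.symm.trans hx.symm)) hzx
  · exact absurd (e.injective (hwz.symm.trans hy.symm)) hzy
  · exact hwz.symm

theorem triangle_unique (hB : Cfsg.IsSteinerSystem 2 3 B) {e e' : Fin 9 ≃ α}
    (he : IsIso Data.list9 B e) (he' : IsIso Data.list9 B e') (h0 : e 0 = e' 0) (h1 : e 1 = e' 1)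
    (h3 : e 3 = e' 3) : e = e' := by
  have step : ∀ p : Fin 9 × Fin 9 × Fin 9,
      p ∈ ([(0, 1, 2), (0, 3, 4), (1, 3, 5), (0, 5, 6), (2, 3, 7), (4, 1, 8)] :
        List (Fin 9 × Fin 9 × Fin 9)) →
      e p.1 = e' p.1 → e p.2.1 = e' p.2.1 → e p.2.2 = e' p.2.2 := by
    intro p hp
    obtain ⟨hL, ha, hb, hc⟩ := lines9 p hp
    exact agree_third hB he he' hL ha hb hc
  have h2 := step (0, 1, 2) (by simp) h0 h1
  have h4 := step (0, 3, 4) (by simp) h0 h3
  have h5 := step (1, 3, 5) (by simp) h1 h3
  have h6 := step (0, 5, 6) (by simp) h0 h5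
  have h7 := step (2, 3, 7) (by simp) h2 h3
  have h8 := step (4, 1, 8) (by simp) h4 h1
  ext x
  fin_cases x <;> assumption

theorem card_isIso9 (hB : Cfsg.IsSteinerSystem 2 3 B) (hv : Fintype.card α = 9) :
    Nat.card {e : Fin 9 ≃ α // IsIso Data.list9 B e} = 432 := by
  classical
  let T : Finset (α × α × α) := Finset.univ.filter fun t =>
    t.1 ≠ t.2.1 ∧ t.1 ≠ t.2.2 ∧ t.2.1 ≠ t.2.2 ∧ ({t.1, t.2.1, t.2.2} : Finset α) ∉ B
  let Φ : {e : Fin 9 ≃ α // IsIso Data.list9 B e} → T := fun e => ⟨(e.1 0, e.1 1, e.1 3), by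
    simp only [T, Finset.mem_filter, Finset.mem_univ, true_and]
    refine ⟨e.1.injective.ne (by decide), e.1.injective.ne (by decide),
      e.1.injective.ne (by decide), ?_⟩
    intro h
    have : mask ({0, 1, 3} : Finset (Fin 9)) ∈ Data.list9 := (e.2 _).mp (by
      simpa [Finset.map_insert] using h)
    rw [← memb_iff, notline9] at this
    exact Bool.noConfusion this⟩
  have hΦ : Function.Bijective Φ := by
    constructor
    · intro e e' h
      have h' := congrArg Subtype.val h
      simp only [Φ, Prod.mk.injEq] at h'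
      exact Subtype.ext (triangle_unique hB e.2 e'.2 h'.1 h'.2.1 h'.2.2)
    · rintro ⟨⟨a, b, c⟩, h⟩
      simp only [T, Finset.mem_filter, Finset.mem_univ, true_and] at h
      obtain ⟨e, ⟨h0, h1, h3⟩, he⟩ := exists_triangle_iso hB hv h.1 h.2.1 h.2.2.1 h.2.2.2
      exact ⟨⟨e, he⟩, Subtype.ext (by simp [Φ, h0, h1, h3])⟩
  rw [Nat.card_eq_of_bijective Φ hΦ, Nat.card_eq_finsetCard]
  have hfib : ∀ p ∈ (Finset.univ : Finset α).offDiag,
      (T.filter fun t => (t.1, t.2.1) = p).card = 6 := by
    rintro ⟨a, b⟩ hp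
    rw [Finset.mem_offDiag] at hp
    obtain ⟨d, hda, hdb, hd⟩ := exists_third hB hp.2.2
    have heq : (T.filter fun t => (t.1, t.2.1) = (a, b)) =
        (Finset.univ \ {a, b, d}).image fun c => (a, b, c) := by
      ext ⟨x, y, z⟩
      simp only [T, Finset.mem_filter, Finset.mem_univ, true_and, Finset.mem_image,
        Finset.mem_sdiff, Finset.mem_insert, Finset.mem_singleton, not_or, Prod.mk.injEq]
      constructor
      · rintro ⟨⟨hxy, hxz, hyz, hn⟩, rfl, rfl⟩
        exact ⟨z, ⟨hxz.symm, hyz.symm, fun e => hn (e ▸ hd)⟩, rfl, rfl, rfl⟩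
      · rintro ⟨c, ⟨hca, hcb, hcd⟩, rfl, rfl, rfl⟩
        refine ⟨⟨hp.2.2, Ne.symm hca, Ne.symm hcb, fun hn => ?_⟩, rfl, rfl⟩
        have h := line_eq hB hn hd hp.2.2 (by simp) (by simp) (by simp) (by simp)
        have hc' : c ∈ ({a, b, d} : Finset α) := h ▸ by simp
        simp only [Finset.mem_insert, Finset.mem_singleton] at hc'
        rcases hc' with e | e | e
        exacts [hca e, hcb e, hcd e]
    rw [heq, Finset.card_image_of_injective _ fun u v e => by simpa using e,
      Finset.card_sdiff_of_subset (Finset.subset_univ _), Finset.card_univ, hv,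
      Finset.card_eq_three.mpr ⟨a, b, d, hp.2.2, hda.symm, hdb.symm, rfl⟩]
  rw [Finset.card_eq_sum_card_fiberwise (f := fun t : α × α × α => (t.1, t.2.1))
    (t := (Finset.univ : Finset α).offDiag) (fun t ht => by
      simp only [T, Finset.coe_filter, Finset.mem_univ, true_and, Set.mem_ofPred_eq] at ht
      simp only [Finset.coe_offDiag, Finset.coe_univ, Set.mem_offDiag, Set.mem_univ, true_and]
      exact ht.1),
    Finset.sum_congr rfl hfib, Finset.sum_const, Finset.offDiag_card, Finset.card_univ, hv, smul_eq_mul]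

/-- The two points used for transitivity. -/
def tuple9 : Fin 2 → Fin 9 := ![0, 1]

theorem realise9 (hB : Cfsg.IsSteinerSystem 2 3 B) (hv : Fintype.card α = 9) (y : Fin 2 ↪ α) :
    ∃ e : Fin 9 ≃ α, IsIso Data.list9 B e ∧ ∀ i, e (tuple9 i) = y i := by
  classical
  have h01 : y 0 ≠ y 1 := y.injective.ne (by decide)
  obtain ⟨d, hda, hdb, hd⟩ := exists_third hB h01
  obtain ⟨c, hc⟩ : ∃ c, c ∉ ({y 0, y 1, d} : Finset α) := by
    by_contra hall
    push Not at hall
    have h1 := Finset.card_le_card (fun t (_ : t ∈ (Finset.univ : Finset α)) => hall t)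
    rw [Finset.card_univ, hv] at h1
    have := h1.trans Finset.card_le_three
    omega
  simp only [Finset.mem_insert, Finset.mem_singleton, not_or] at hc
  obtain ⟨e, ⟨h0, h1, -⟩, he⟩ := exists_triangle_iso hB hv h01 (Ne.symm hc.1) (Ne.symm hc.2.1)
    (fun hn => by
      have h := line_eq hB hn hd h01 (by simp) (by simp) (by simp) (by simp)
      have hc' : c ∈ ({y 0, y 1, d} : Finset α) := h ▸ by simp
      simp only [Finset.mem_insert, Finset.mem_singleton] at hc'
      rcases hc' with e | e | e
      exacts [hc.1 e, hc.2.1 e, hc.2.2 e])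
  refine ⟨e, he, fun i => ?_⟩
  fin_cases i
  exacts [h0, h1]

/-! ### The chain up to S(5,6,12) -/

/-- The relabellings exchanging the classes over the affine plane. -/
def shift9 : Fin 3 → Equiv.Perm (Fin 9) :=
  ![swaps [], swaps [(3, 5), (4, 6), (7, 8)], swaps [(3, 7), (4, 8), (5, 6)]]

/-- The three classes of quadrangles. -/
def classes10 : Classes 9 Data.list9 where
  num := 3
  cls := ![Data.cls10_0, Data.cls10_1, Data.cls10_2]
  zero := 0
  shift := shift9
  bound := by
    intro m hm
    exact of_decide_eq_true (List.all_eq_true.mp swap9_facts.2.2.2.2 m hm)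
  bound' := by
    have h : (Data.cls10_0.all fun m => decide (m < 2 ^ 9)) = true := by decide +kernel
    intro m hm
    exact of_decide_eq_true (List.all_eq_true.mp h m hm)
  nodupL := swap9_facts.2.1
  nodup := nodup_of_incr (show incr Data.cls10_0 = true by decide +kernel)
  shiftL := by decide +kernel
  shiftC := by decide +kernel
  length_eq := by decide +kernel
  distinct := by
    intro j k hjk
    fin_cases j <;> fin_cases k <;> first
      | exact absurd rfl hjk
      | exact ⟨_, List.mem_cons_self, by decide +kernel⟩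

/-- The standard S(3,4,10). -/
def list10 : List ℕ := classes10.next

/-- The relabellings exchanging the classes over S(3,4,10). -/
def shift10 : Fin 2 → Equiv.Perm (Fin 10) := ![swaps [], swaps [(3, 4), (5, 8), (6, 7)]]

/-- The two classes of pentads. -/
def classes11 : Classes 10 list10 where
  num := 2
  cls := ![Data.cls11_0, Data.cls11_1]
  zero := 0
  shift := shift10
  bound := by
    have h : (list10.all fun m => decide (m < 2 ^ 10)) = true := by decide +kernel
    intro m hm
    exact of_decide_eq_true (List.all_eq_true.mp h m hm)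
  bound' := by
    have h : (Data.cls11_0.all fun m => decide (m < 2 ^ 10)) = true := by decide +kernel
    intro m hm
    exact of_decide_eq_true (List.all_eq_true.mp h m hm)
  nodupL := by decide +kernel
  nodup := nodup_of_incr (show incr Data.cls11_0 = true by decide +kernel)
  shiftL := by decide +kernel
  shiftC := by decide +kernel
  length_eq := by decide +kernel
  distinct := by
    intro j k hjk
    fin_cases j <;> fin_cases k <;> first
      | exact absurd rfl hjk
      | exact ⟨_, List.mem_cons_self, by decide +kernel⟩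

/-- The standard S(4,5,11). -/
def list11 : List ℕ := classes11.next

theorem bound11 : (list11.all fun m => decide (m < 2 ^ 11)) = true := by decide +kernel

theorem bound12 : (Data.cls12_0.all fun m => decide (m < 2 ^ 11)) = true := by decide +kernel

/-- The single class of hexads. -/
def classes12 : Classes 11 list11 where
  num := 1
  cls := fun _ => Data.cls12_0
  zero := 0
  shift := fun _ => 1
  bound := fun m hm => of_decide_eq_true (List.all_eq_true.mp bound11 m hm)
  bound' := fun m hm => of_decide_eq_true (List.all_eq_true.mp bound12 m hm)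
  nodupL := by decide +kernel
  nodup := nodup_of_incr (show incr Data.cls12_0 = true by decide +kernel)
  shiftL := fun _ => mapsInto_one fun m hm => of_decide_eq_true (List.all_eq_true.mp bound11 m hm)
  shiftC := fun _ => mapsInto_one fun m hm => of_decide_eq_true (List.all_eq_true.mp bound12 m hm)
  length_eq := fun _ => rfl
  distinct := fun j k hjk => absurd (Subsingleton.elim j k) hjk

/-- The standard S(5,6,12). -/
def list12 : List ℕ := classes12.next

/-- The checks needed for one extension step. -/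
def stepCheck (n T N : ℕ) (L : List ℕ) (classes : List (List ℕ)) : Bool :=
  let it := avoidCands n T L
  incr it && (it.all fun x => decide (x < 2 ^ n) && Nat.beq (wt n x) T) &&
    (it.all fun x => L.all fun f => !(sub f x)) &&
    (L.all fun m => Nat.beq (wt n m) T) &&
    (covers it.length it (avoidCands n (T + 1) L) []).all fun S =>
      decide (N ≤ S.length) && classes.any fun C => S.all fun x => memb x C

theorem classes_of_check {n T N : ℕ} {L : List ℕ} (D : Classes n L) (lst : List (List ℕ))
    (hlst : ∀ C ∈ lst, ∃ j, D.cls j = C) (hchk : stepCheck n T N L lst = true)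
    (hn : Fintype.card α = n + 1) (hB : Cfsg.IsSteinerSystem T (T + 1) B)
    (hN : B.ncard ≤ L.length + N) (q : α) (e : Fin n ≃ {x : α // x ≠ q})
    (he : IsIso L (derived B q) e) : ∃ j, ∀ r ∈ rest B e, mask r ∈ D.cls j := by
  simp only [stepCheck, Bool.and_eq_true] at hchk
  obtain ⟨⟨⟨⟨h1, h2⟩, h3⟩, h4⟩, h5⟩ := hchk
  have h2' : ∀ x ∈ avoidCands n T L, x < 2 ^ n ∧ wt n x = T := by
    intro x hx
    have := List.all_eq_true.mp h2 x hx
    rw [Bool.and_eq_true, decide_eq_true_eq, Nat.beq_eq] at this
    exact this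
  obtain ⟨C, hC, hr⟩ := rest_classes lst hn hB he
    (fun m hm => ⟨D.bound m hm, by simpa [Nat.beq_eq] using List.all_eq_true.mp h4 m hm⟩)
    D.nodupL hN (nodup_of_incr h1) (fun x hx => (h2' x hx).1) h3 (fun x hx => (h2' x hx).2) h5
  obtain ⟨j, rfl⟩ := hlst C hC
  exact ⟨j, hr⟩

theorem check10 :
    stepCheck 9 3 18 Data.list9 [Data.cls10_0, Data.cls10_1, Data.cls10_2] = true := by decide +kernel

theorem check11 : stepCheck 10 4 36 list10 [Data.cls11_0, Data.cls11_1] = true := by decide +kernel

theorem check12 : stepCheck 11 5 66 list11 [Data.cls12_0] = true := by decide +kernel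

theorem lengths_small : Data.cls10_0.length = 18 ∧ list10.length = 30 ∧ Data.cls11_0.length = 36 ∧
    list11.length = 66 ∧ Data.cls12_0.length = 66 := by decide +kernel

theorem hcls10 (hB : Cfsg.IsSteinerSystem 3 4 B) (hv : Fintype.card α = 10) (q : α)
    (e : Fin 9 ≃ {x : α // x ≠ q}) (he : IsIso Data.list9 (derived B q) e) :
    ∃ j, ∀ r ∈ rest B e, mask r ∈ classes10.cls j :=
  classes_of_check classes10 _ (by
    intro C hC
    simp only [List.mem_cons, List.not_mem_nil, or_false] at hC
    rcases hC with rfl | rfl | rfl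
    exacts [⟨(0 : Fin 3), rfl⟩, ⟨(1 : Fin 3), rfl⟩, ⟨(2 : Fin 3), rfl⟩]) check10 hv hB
    (by rw [swap9_facts.2.2.2.1, card_blocks (N := 30) hB hv (by decide) (by decide)]) q e he

theorem hN10 (hB : Cfsg.IsSteinerSystem 3 4 B) (hv : Fintype.card α = 10) :
    Data.list9.length + (classes10.cls classes10.zero).length ≤ B.ncard := by
  have e : classes10.cls classes10.zero = Data.cls10_0 := rfl
  rw [e, lengths_small.1, swap9_facts.2.2.2.1, card_blocks (N := 30) hB hv (by decide) (by decide)]

theorem hcls11 (hB : Cfsg.IsSteinerSystem 4 5 B) (hv : Fintype.card α = 11) (q : α)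
    (e : Fin 10 ≃ {x : α // x ≠ q}) (he : IsIso list10 (derived B q) e) :
    ∃ j, ∀ r ∈ rest B e, mask r ∈ classes11.cls j :=
  classes_of_check classes11 _ (by
    intro C hC
    simp only [List.mem_cons, List.not_mem_nil, or_false] at hC
    rcases hC with rfl | rfl
    exacts [⟨(0 : Fin 2), rfl⟩, ⟨(1 : Fin 2), rfl⟩]) check11 hv hB
    (by rw [lengths_small.2.1, card_blocks (N := 66) hB hv (by decide) (by decide)]) q e he

theorem hN11 (hB : Cfsg.IsSteinerSystem 4 5 B) (hv : Fintype.card α = 11) :
    list10.length + (classes11.cls classes11.zero).length ≤ B.ncard := by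
  have e : classes11.cls classes11.zero = Data.cls11_0 := rfl
  rw [e, lengths_small.2.2.1, lengths_small.2.1,
    card_blocks (N := 66) hB hv (by decide) (by decide)]

theorem hcls12 (hB : Cfsg.IsSteinerSystem 5 6 B) (hv : Fintype.card α = 12) (q : α)
    (e : Fin 11 ≃ {x : α // x ≠ q}) (he : IsIso list11 (derived B q) e) :
    ∃ j, ∀ r ∈ rest B e, mask r ∈ classes12.cls j :=
  classes_of_check classes12 _ (by
    intro C hC
    simp only [List.mem_cons, List.not_mem_nil, or_false] at hC
    exact ⟨(0 : Fin 1), hC.symm⟩) check12 hv hB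
    (by rw [lengths_small.2.2.2.1, card_blocks (N := 132) hB hv (by decide) (by decide)]) q e he

theorem hN12 (hB : Cfsg.IsSteinerSystem 5 6 B) (hv : Fintype.card α = 12) :
    list11.length + (classes12.cls classes12.zero).length ≤ B.ncard := by
  have e : classes12.cls classes12.zero = Data.cls12_0 := rfl
  rw [e, lengths_small.2.2.2.1, lengths_small.2.2.2.2,
    card_blocks (N := 132) hB hv (by decide) (by decide)]

omit [DecidableEq α] in
theorem card_sub_one [DecidableEq α] {k : ℕ} (hv : Fintype.card α = k + 1) (q : α) :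
    Fintype.card {x : α // x ≠ q} = k := by
  rw [Fintype.card_subtype_compl, Fintype.card_subtype_eq, hv]
  rfl

theorem card_isIso10 (hB : Cfsg.IsSteinerSystem 3 4 B) (hv : Fintype.card α = 10) :
    Nat.card {e : Fin 10 ≃ α // IsIso list10 B e} = 1440 := by
  have h := card_isIso_next classes10 (hcls10 hB hv) (hN10 hB hv) (N := 432) fun q =>
    card_isIso9 (derived_isSteiner hB q) (card_sub_one hv q)
  rw [hv] at h
  change 3 * Nat.card {e : Fin 10 ≃ α // IsIso list10 B e} = _ at h
  omega

theorem card_isIso11 (hB : Cfsg.IsSteinerSystem 4 5 B) (hv : Fintype.card α = 11) :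
    Nat.card {e : Fin 11 ≃ α // IsIso list11 B e} = 7920 := by
  have h := card_isIso_next classes11 (hcls11 hB hv) (hN11 hB hv) (N := 1440) fun q =>
    card_isIso10 (derived_isSteiner hB q) (card_sub_one hv q)
  rw [hv] at h
  change 2 * Nat.card {e : Fin 11 ≃ α // IsIso list11 B e} = _ at h
  omega

theorem card_isIso12 (hB : Cfsg.IsSteinerSystem 5 6 B) (hv : Fintype.card α = 12) :
    Nat.card {e : Fin 12 ≃ α // IsIso list12 B e} = 95040 := by
  have h := card_isIso_next classes12 (hcls12 hB hv) (hN12 hB hv) (N := 7920) fun q =>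
    card_isIso11 (derived_isSteiner hB q) (card_sub_one hv q)
  rw [hv] at h
  change 1 * Nat.card {e : Fin 12 ≃ α // IsIso list12 B e} = _ at h
  omega

/-- The three points used for transitivity. -/
def tuple10 : Fin 3 → Fin 10 :=
  Fin.snoc (α := fun _ => Fin 10) (fun i => (tuple9 i).castSucc) (Fin.last 9)

/-- The four points used for transitivity. -/
def tuple11 : Fin 4 → Fin 11 :=
  Fin.snoc (α := fun _ => Fin 11) (fun i => (tuple10 i).castSucc) (Fin.last 10)

/-- The five points used for transitivity. -/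
def tuple12 : Fin 5 → Fin 12 :=
  Fin.snoc (α := fun _ => Fin 12) (fun i => (tuple11 i).castSucc) (Fin.last 11)

theorem shift9_fix : ∀ j : Fin 3, ∀ i : Fin 2, shift9 j (tuple9 i) = tuple9 i := by decide +kernel

theorem shift10_fix : ∀ j : Fin 2, ∀ i : Fin 3, shift10 j (tuple10 i) = tuple10 i := by
  decide +kernel

theorem realise10 (hB : Cfsg.IsSteinerSystem 3 4 B) (hv : Fintype.card α = 10) (y : Fin 3 ↪ α) :
    ∃ e : Fin 10 ≃ α, IsIso list10 B e ∧ ∀ i, e (tuple10 i) = y i :=
  realise_next classes10 tuple9 shift9_fix (hcls10 hB hv) (hN10 hB hv)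
    (fun q y => realise9 (derived_isSteiner hB q) (card_sub_one hv q) y) y

theorem realise11 (hB : Cfsg.IsSteinerSystem 4 5 B) (hv : Fintype.card α = 11) (y : Fin 4 ↪ α) :
    ∃ e : Fin 11 ≃ α, IsIso list11 B e ∧ ∀ i, e (tuple11 i) = y i :=
  realise_next classes11 tuple10 shift10_fix (hcls11 hB hv) (hN11 hB hv)
    (fun q y => realise10 (derived_isSteiner hB q) (card_sub_one hv q) y) y

theorem realise12 (hB : Cfsg.IsSteinerSystem 5 6 B) (hv : Fintype.card α = 12) (y : Fin 5 ↪ α) :
    ∃ e : Fin 12 ≃ α, IsIso list12 B e ∧ ∀ i, e (tuple12 i) = y i :=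
  realise_next classes12 tuple11 (fun _ _ => rfl) (hcls12 hB hv) (hN12 hB hv)
    (fun q y => realise11 (derived_isSteiner hB q) (card_sub_one hv q) y) y

theorem exists_iso11 (hB : Cfsg.IsSteinerSystem 4 5 B) (hv : Fintype.card α = 11) :
    ∃ e : Fin 11 ≃ α, IsIso list11 B e := by
  obtain ⟨y⟩ : Nonempty (Fin 4 ↪ α) := Function.Embedding.nonempty_of_card_le (by simp [hv])
  obtain ⟨e, he, -⟩ := realise11 hB hv y
  exact ⟨e, he⟩

theorem exists_iso12 (hB : Cfsg.IsSteinerSystem 5 6 B) (hv : Fintype.card α = 12) :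
    ∃ e : Fin 12 ≃ α, IsIso list12 B e := by
  obtain ⟨y⟩ : Nonempty (Fin 5 ↪ α) := Function.Embedding.nonempty_of_card_le (by simp [hv])
  obtain ⟨e, he, -⟩ := realise12 hB hv y
  exact ⟨e, he⟩

end Cfsg.Agent.Design
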