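import Cfsg.Agent.Design.Iso
import Cfsg.Agent.Design.Basic

/-!
Extending a labelled design by one point.
-/

set_option autoImplicit false

namespace Cfsg.Agent.Design

open Cfsg.Agent.SteinerCount

variable {n : ℕ} {α : Type*} [DecidableEq α]

/-- Extend a labelling of the points other than `q`, sending the last label to `q`. -/
def ext {q : α} (e : Fin n ≃ {x : α // x ≠ q}) : Fin (n + 1) ≃ α :=
  finSuccEquivLast.trans (e.optionCongr.trans (Equiv.optionSubtypeNe q))

@[simp] theorem ext_last {q : α} (e : Fin n ≃ {x : α // x ≠ q}) : ext e (Fin.last n) = q := by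
  simp [ext]

@[simp] theorem ext_castSucc {q : α} (e : Fin n ≃ {x : α // x ≠ q}) (i : Fin n) :
    ext e i.castSucc = e i := by
  simp [ext]

theorem ext_injective {q : α} : Function.Injective (ext : (Fin n ≃ {x : α // x ≠ q}) → _) := by
  intro e e' h
  ext i
  rw [← ext_castSucc e, ← ext_castSucc e', h]

/-- The masks of a design from the derived masks and the masks of the remaining blocks. -/
def stepList (n : ℕ) (L C : List ℕ) : List ℕ := L.map (fun m => m + 2 ^ n) ++ C

theorem mask_castSucc (r : Finset (Fin n)) : mask (r.map Fin.castSuccEmb) = mask r := by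
  rw [mask, Finset.sum_map]; rfl

theorem mask_cons_last (r : Finset (Fin n)) (h : Fin.last n ∉ r.map Fin.castSuccEmb) :
    mask (Finset.cons (Fin.last n) (r.map Fin.castSuccEmb) h) = mask r + 2 ^ n := by
  rw [mask, Finset.sum_cons, ← mask, mask_castSucc, add_comm, Fin.val_last]

theorem last_notMem (r : Finset (Fin n)) : Fin.last n ∉ r.map Fin.castSuccEmb := by
  simp

theorem exists_lower (s : Finset (Fin (n + 1))) (h : Fin.last n ∉ s) :
    ∃ r : Finset (Fin n), s = r.map Fin.castSuccEmb := by
  refine ⟨Finset.univ.filter fun i => i.castSucc ∈ s, ?_⟩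
  ext x
  rcases Fin.eq_castSucc_or_eq_last x with ⟨i, rfl⟩ | rfl
  · simp
  · simp [h]

theorem exists_split (s : Finset (Fin (n + 1))) :
    (∃ r : Finset (Fin n), s = r.map Fin.castSuccEmb) ∨
      ∃ r : Finset (Fin n), s = Finset.cons (Fin.last n) (r.map Fin.castSuccEmb) (last_notMem r) := by
  by_cases h : Fin.last n ∈ s
  · obtain ⟨r, hr⟩ := exists_lower (s.erase (Fin.last n)) (Finset.notMem_erase _ _)
    refine Or.inr ⟨r, ?_⟩
    rw [Finset.cons_eq_insert, ← hr, Finset.insert_erase h]
  · exact Or.inl (exists_lower s h)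

variable {B : Set (Finset α)} {L C : List ℕ}

/-- The blocks avoiding `q`, in the labels of a labelling of the other points. -/
def rest (B : Set (Finset α)) {q : α} (e : Fin n ≃ {x : α // x ≠ q}) :
    Set (Finset (Fin n)) :=
  {r | r.map (e.toEmbedding.trans (Function.Embedding.subtype _)) ∈ B}

theorem map_ext_lower {q : α} (e : Fin n ≃ {x : α // x ≠ q}) (r : Finset (Fin n)) :
    (r.map Fin.castSuccEmb).map (ext e).toEmbedding =
      r.map (e.toEmbedding.trans (Function.Embedding.subtype _)) := by
  rw [Finset.map_map]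
  congr 1
  ext i
  simp

theorem map_ext_upper {q : α} (e : Fin n ≃ {x : α // x ≠ q}) (r : Finset (Fin n)) :
    (Finset.cons (Fin.last n) (r.map Fin.castSuccEmb) (last_notMem r)).map (ext e).toEmbedding ∈ B ↔
      r.map e.toEmbedding ∈ derived B q := by
  rw [mem_derived]
  constructor <;> intro h <;> convert! h using 1 <;>
    simp [Finset.map_map, Function.Embedding.trans, Function.comp_def]

omit [DecidableEq α] in
theorem mem_stepList_lower {m : ℕ} (hm : m < 2 ^ n) : m ∈ stepList n L C ↔ m ∈ C := by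
  rw [stepList, List.mem_append, List.mem_map]
  constructor
  · rintro (⟨a, -, ha⟩ | h)
    · omega
    · exact h
  · exact Or.inr

omit [DecidableEq α] in
theorem mem_stepList_upper {m : ℕ} (hC : ∀ x ∈ C, x < 2 ^ n) :
    m + 2 ^ n ∈ stepList n L C ↔ m ∈ L := by
  rw [stepList, List.mem_append, List.mem_map]
  constructor
  · rintro (⟨a, ha, hae⟩ | h)
    · have : a = m := by omega
      exact this ▸ ha
    · have := hC _ h; omega
  · exact fun h => Or.inl ⟨m, h, rfl⟩

theorem isIso_ext_iff {q : α} (e : Fin n ≃ {x : α // x ≠ q}) (hC : ∀ x ∈ C, x < 2 ^ n) :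
    IsIso (stepList n L C) B (ext e) ↔
      IsIso L (derived B q) e ∧ ∀ r, r ∈ rest B e ↔ mask r ∈ C := by
  constructor
  · intro h
    refine ⟨fun r => ?_, fun r => ?_⟩
    · rw [← map_ext_upper e r, h, mask_cons_last, mem_stepList_upper hC]
    · show r.map _ ∈ B ↔ _
      rw [← map_ext_lower e r, h, mask_castSucc, mem_stepList_lower (mask_lt r)]
  · rintro ⟨h1, h2⟩ s
    rcases exists_split s with ⟨r, rfl⟩ | ⟨r, rfl⟩
    · rw [map_ext_lower, mask_castSucc, mem_stepList_lower (mask_lt r)]
      exact h2 r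
    · rw [map_ext_upper, mask_cons_last, mem_stepList_upper hC]
      exact h1 r

/-- If every block avoiding `q` is labelled by a mask of `C`, the extension is an isomorphism. -/
theorem isIso_ext_of_subset [Fintype α] {q : α} (e : Fin n ≃ {x : α // x ≠ q})
    (he : IsIso L (derived B q) e) (h : ∀ r ∈ rest B e, mask r ∈ C)
    (hC : ∀ x ∈ C, x < 2 ^ n) (hN : L.length + C.length ≤ B.ncard) :
    IsIso (stepList n L C) B (ext e) := by
  refine isIso_of_subset (fun b hb => ?_) (by rw [stepList, List.length_append, List.length_map]; exact hN)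
  rw [← map_pull (ext e) b] at hb
  rcases exists_split (b.map (ext e).symm.toEmbedding) with ⟨r, hr⟩ | ⟨r, hr⟩ <;> rw [hr] at hb ⊢
  · rw [mask_castSucc, mem_stepList_lower (mask_lt r)]
    rw [map_ext_lower] at hb
    exact h r hb
  · rw [mask_cons_last, mem_stepList_upper hC]
    exact (he r).mp ((map_ext_upper e r).mp hb)

theorem isIso_derived {e : Fin (n + 1) ≃ α} (he : IsIso (stepList n L C) B e)
    (hC : ∀ x ∈ C, x < 2 ^ n) {q : α} (hq : e (Fin.last n) = q) :
    ∃ e₀ : Fin n ≃ {x : α // x ≠ q}, ext e₀ = e ∧ IsIso L (derived B q) e₀ := by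
  let e₀ : Fin n ≃ {x : α // x ≠ q} :=
    Equiv.ofBijective (fun i => ⟨e i.castSucc, fun h => by
        rw [← hq, e.injective.eq_iff] at h; exact Fin.castSucc_ne_last i h⟩)
      ⟨fun i j h => Fin.castSucc_injective _ (e.injective (congrArg Subtype.val h)), fun x => by
        rcases Fin.eq_castSucc_or_eq_last (e.symm x.1) with ⟨i, hi⟩ | hi
        · exact ⟨i, Subtype.ext (by show e i.castSucc = x.1; rw [← hi, Equiv.apply_symm_apply])⟩
        · exact absurd (((e.apply_symm_apply x.1).symm.trans (congrArg e hi)).trans hq) x.2⟩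
  have h : ext e₀ = e := by
    ext x
    rcases Fin.eq_castSucc_or_eq_last x with ⟨i, rfl⟩ | rfl
    · rw [ext_castSucc]; rfl
    · rw [ext_last, hq]
  exact ⟨e₀, h, ((isIso_ext_iff e₀ hC).mp (h ▸ he)).1⟩

/-- The relabellings of the derived masks that permute the classes of completions. -/
structure Classes (n : ℕ) (L : List ℕ) where
  /-- number of classes -/
  num : ℕ
  /-- the classes -/
  cls : Fin num → List ℕ
  /-- the class used in the standard design -/
  zero : Fin num
  /-- relabelling sending the standard class to class `j` -/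
  shift : Fin num → Equiv.Perm (Fin n)
  bound : ∀ m ∈ L, m < 2 ^ n
  bound' : ∀ m ∈ cls zero, m < 2 ^ n
  nodupL : L.Nodup
  nodup : (cls zero).Nodup
  shiftL : ∀ j, mapsInto (shift j) L L = true
  shiftC : ∀ j, mapsInto (shift j) (cls zero) (cls j) = true
  length_eq : ∀ j, (cls j).length = (cls zero).length
  distinct : ∀ j k, j ≠ k → ∃ m, m ∈ cls j ∧ m ∉ cls k

variable (D : Classes n L)

/-- The standard list of the extended design. -/
def Classes.next : List ℕ := stepList n L (D.cls D.zero)

theorem rest_trans (σ : Equiv.Perm (Fin n)) {q : α} (e : Fin n ≃ {x : α // x ≠ q})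
    (r : Finset (Fin n)) :
    r ∈ rest B (σ.trans e) ↔ r.map σ.toEmbedding ∈ rest B e := by
  show r.map _ ∈ B ↔ (r.map σ.toEmbedding).map _ ∈ B
  rw [Finset.map_map]
  rfl

theorem isIso_shift {q : α} {e : Fin n ≃ {x : α // x ≠ q}} (he : IsIso L (derived B q) e)
    (j : Fin D.num) :
    IsIso D.next B (ext ((D.shift j).trans e)) ↔ ∀ r, r ∈ rest B e ↔ mask r ∈ D.cls j := by
  rw [Classes.next, isIso_ext_iff _ D.bound']
  have hiff := mapsInto_iff (D.shiftC j) D.bound' D.nodup (D.length_eq j).le
  constructor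
  · rintro ⟨-, h⟩ r
    obtain ⟨r', rfl⟩ : ∃ r' : Finset (Fin n), r'.map (D.shift j).toEmbedding = r :=
      ⟨r.map (D.shift j).symm.toEmbedding, by ext; simp⟩
    rw [← rest_trans, h, hiff]
  · intro h
    refine ⟨he.relabel (D.shiftL j) D.bound D.nodupL, fun r => ?_⟩
    rw [rest_trans, h, hiff]

/-- Any completion is labelled by exactly one class. -/
theorem existsUnique_shift [Fintype α] {q : α} {e : Fin n ≃ {x : α // x ≠ q}}
    (he : IsIso L (derived B q) e) (hN : L.length + (D.cls D.zero).length ≤ B.ncard)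
    (h : ∃ j, ∀ r ∈ rest B e, mask r ∈ D.cls j) :
    ∃! j, IsIso D.next B (ext ((D.shift j).trans e)) := by
  obtain ⟨j, hj⟩ := h
  have hiff := mapsInto_iff (D.shiftC j) D.bound' D.nodup (D.length_eq j).le
  have h1 : IsIso D.next B (ext ((D.shift j).trans e)) := by
    refine isIso_ext_of_subset _ (he.relabel (D.shiftL j) D.bound D.nodupL) (fun r hr => ?_)
      D.bound' hN
    rw [← hiff]
    exact hj _ ((rest_trans _ _ _).mp hr)
  refine ⟨j, h1, fun k hk => ?_⟩
  by_contra hne
  obtain ⟨m, hm, hm'⟩ := D.distinct k j hne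
  have h2 := (isIso_shift D he j).mp h1
  have h3 := (isIso_shift D he k).mp hk
  have hiffk := mapsInto_iff (D.shiftC k) D.bound' D.nodup (D.length_eq k).le
  have hmlt : m < 2 ^ n := by
    -- every element of class k is the image of one of the standard class
    classical
    have himg : (D.cls D.zero).toFinset.image
        (fun x => mask ((bits n x).map (D.shift k).toEmbedding)) = (D.cls k).toFinset := by
      apply Finset.eq_of_subset_of_card_le
      · intro x hx
        simp only [Finset.mem_image, List.mem_toFinset] at hx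
        obtain ⟨a, ha, rfl⟩ := hx
        rw [List.mem_toFinset, hiffk, mask_bits (D.bound' a ha)]
        exact ha
      · rw [Finset.card_image_of_injOn, List.toFinset_card_of_nodup D.nodup]
        · exact (D.cls k).toFinset_card_le.trans (D.length_eq k).le
        · intro a ha b hb hab
          exact bits_inj (D.bound' a (List.mem_toFinset.mp ha)) (D.bound' b (List.mem_toFinset.mp hb))
            (Finset.map_injective _ (mask_inj hab))
    rw [← List.mem_toFinset, ← himg, Finset.mem_image] at hm
    obtain ⟨a, -, rfl⟩ := hm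
    exact mask_lt _
  apply hm'
  rw [← mask_bits hmlt] at hm ⊢
  exact (h2 _).mp ((h3 _).mpr hm)

/-- The number of labellings of the extended design. -/
theorem card_isIso_next [Fintype α] {N : ℕ}
    (hcls : ∀ (q : α) (e : Fin n ≃ {x : α // x ≠ q}), IsIso L (derived B q) e →
      ∃ j, ∀ r ∈ rest B e, mask r ∈ D.cls j)
    (hB : L.length + (D.cls D.zero).length ≤ B.ncard)
    (hN : ∀ q : α, Nat.card {e : Fin n ≃ {x : α // x ≠ q} // IsIso L (derived B q) e} = N) :
    D.num * Nat.card {e : Fin (n + 1) ≃ α // IsIso D.next B e} = Fintype.card α * N := by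
  classical
  have hex : ∀ e : {e : Fin (n + 1) ≃ α // IsIso D.next B e},
      ∃ e₀ : Fin n ≃ {x : α // x ≠ e.1 (Fin.last n)}, ext e₀ = e.1 ∧
        IsIso L (derived B (e.1 (Fin.last n))) e₀ :=
    fun e => isIso_derived e.2 D.bound' rfl
  choose f hf1 hf2 using hex
  let Φ : Fin D.num × {e : Fin (n + 1) ≃ α // IsIso D.next B e} →
      Σ q : α, {e : Fin n ≃ {x : α // x ≠ q} // IsIso L (derived B q) e} := fun p =>
    ⟨p.2.1 (Fin.last n), (D.shift p.1).symm.trans (f p.2), by
      intro r
      have h := mapsInto_iff (D.shiftL p.1) D.bound D.nodupL le_rfl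
        (r.map (D.shift p.1).symm.toEmbedding)
      rw [show (r.map (D.shift p.1).symm.toEmbedding).map (D.shift p.1).toEmbedding = r by
        ext; simp] at h
      rw [h, ← hf2 p.2, Finset.map_map]
      rfl⟩
  have hΦ : Function.Bijective Φ := by
    constructor
    · rintro ⟨j, e⟩ ⟨j', e'⟩ h
      have hq : e.1 (Fin.last n) = e'.1 (Fin.last n) := congrArg Sigma.fst h
      obtain ⟨q, hqd⟩ : ∃ q, e.1 (Fin.last n) = q := ⟨_, rfl⟩
      have key : ∀ (p : Fin D.num × {e : Fin (n + 1) ≃ α // IsIso D.next B e}),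
          ext ((D.shift p.1).trans (Φ p).2.1) = p.2.1 := by
        intro p
        show ext ((D.shift p.1).trans ((D.shift p.1).symm.trans (f p.2))) = p.2.1
        rw [← Equiv.trans_assoc, Equiv.self_trans_symm, Equiv.refl_trans, hf1]
      have h1 := key (j, e)
      have h2 := key (j', e')
      rw [← h] at h2
      have hu := existsUnique_shift D (Φ (j, e)).2.2 hB (hcls _ _ (Φ (j, e)).2.2)
      have hj : j = j' := hu.unique (by rw [h1]; exact e.2) (by rw [h2]; exact e'.2)
      subst hj
      have : e = e' := Subtype.ext (h1.symm.trans h2)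
      rw [this]
    · rintro ⟨q, e, he⟩
      obtain ⟨j, hj, -⟩ := existsUnique_shift D he hB (hcls q e he)
      refine ⟨(j, ⟨_, hj⟩), ?_⟩
      have key : ∀ (q' : α) (e' : Fin n ≃ {x : α // x ≠ q'}) (he' : IsIso L (derived B q') e'),
          ext e' = ext e →
          (⟨q', e', he'⟩ : Σ q : α, {e : Fin n ≃ {x : α // x ≠ q} // IsIso L (derived B q) e}) =
            ⟨q, e, he⟩ := by
        intro q' e' he' heq
        have : q' = q := by rw [← ext_last e', heq, ext_last]
        subst this
        have := ext_injective heq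
        subst this
        rfl
      refine key _ _ _ ?_
      ext x
      rcases Fin.eq_castSucc_or_eq_last x with ⟨i, rfl⟩ | rfl
      · rw [ext_castSucc, ext_castSucc]
        have h := congrArg (fun g : Fin (n + 1) ≃ α => g ((D.shift j).symm i).castSucc)
          (hf1 ⟨_, hj⟩)
        simpa using h
      · simp
  have := Nat.card_eq_of_bijective Φ hΦ
  rw [Nat.card_prod, Nat.card_eq_fintype_card, Fintype.card_fin, Nat.card_sigma] at this
  rw [this, Finset.sum_congr rfl fun q _ => hN q, Finset.sum_const, smul_eq_mul, Finset.card_univ]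

/-- Tuples extended by the new point can be realised. -/
theorem realise_next [Fintype α] {k : ℕ} (u : Fin k → Fin n)
    (hu : ∀ j i, D.shift j (u i) = u i)
    (hcls : ∀ (q : α) (e : Fin n ≃ {x : α // x ≠ q}), IsIso L (derived B q) e →
      ∃ j, ∀ r ∈ rest B e, mask r ∈ D.cls j)
    (hB : L.length + (D.cls D.zero).length ≤ B.ncard)
    (h : ∀ (q : α) (y : Fin k ↪ {x : α // x ≠ q}),
      ∃ e : Fin n ≃ {x : α // x ≠ q}, IsIso L (derived B q) e ∧ ∀ i, e (u i) = y i)
    (y : Fin (k + 1) ↪ α) :
    ∃ e : Fin (n + 1) ≃ α, IsIso D.next B e ∧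
      ∀ i, e (Fin.snoc (α := fun _ => Fin (n + 1)) (fun i => (u i).castSucc) (Fin.last n) i) = y i := by
  let y' : Fin k ↪ {x : α // x ≠ y (Fin.last k)} :=
    ⟨fun i => ⟨y i.castSucc, fun h => Fin.castSucc_ne_last i (y.injective h)⟩,
      fun i j h => Fin.castSucc_injective _ (y.injective (congrArg Subtype.val h))⟩
  obtain ⟨e, he, hey⟩ := h _ y'
  obtain ⟨j, hj, -⟩ := existsUnique_shift D he hB (hcls _ e he)
  refine ⟨_, hj, fun i => ?_⟩
  rcases Fin.eq_castSucc_or_eq_last i with ⟨i, rfl⟩ | rfl
  · rw [Fin.snoc_castSucc, ext_castSucc, Equiv.trans_apply, hu, hey]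
    rfl
  · rw [Fin.snoc_last, ext_last]

/-- Existence of a labelling of the extended design. -/
theorem exists_next [Fintype α] [Nonempty α]
    (hcls : ∀ (q : α) (e : Fin n ≃ {x : α // x ≠ q}), IsIso L (derived B q) e →
      ∃ j, ∀ r ∈ rest B e, mask r ∈ D.cls j)
    (hB : L.length + (D.cls D.zero).length ≤ B.ncard)
    (h : ∀ q : α, ∃ e : Fin n ≃ {x : α // x ≠ q}, IsIso L (derived B q) e) :
    ∃ e : Fin (n + 1) ≃ α, IsIso D.next B e := by
  obtain ⟨q⟩ := ‹Nonempty α›
  obtain ⟨e, he⟩ := h q
  obtain ⟨j, hj, -⟩ := existsUnique_shift D he hB (hcls q e he)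
  exact ⟨_, hj⟩

end Cfsg.Agent.Design
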